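import Cfsg.Agent.Lib.LinearMax.ClassTwo
import Cfsg.Agent.Lib.UnitPrimeDim.Proper
import Cfsg.Agent.Lib.UnitTwoPrime.Tensor

/-!
A minimal normal subgroup of a subgroup of `GU_8(q)` which is absolutely irreducible and abelian modulo scalars
gives a group of symplectic type of order `2 ^ 8`.
-/

set_option autoImplicit false

namespace Cfsg.Agent.Lib.UnitEight

open Cfsg.Geo Matrix
open scoped MatrixGroups commutatorElement

variable {F : Type*} [Field F] [Fintype F] {q : ℕ}

local notation "MM" => Matrix (Fin 8) (Fin 8) F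

omit [Fintype F] in
theorem mem_scalars_smul {y : GL (Fin 8) F} {c : F} (h : (y : MM) = c • 1) : y ∈ scalars (Fin 8) F :=
  (mem_scalars_iff y).2 ⟨Units.mk0 c fun h0 => y.ne_zero (by rw [h, h0, zero_smul]), h⟩

set_option maxHeartbeats 1000000 in
/-- The symplectic-type group attached to a minimal normal subgroup which is abelian modulo scalars. -/
theorem symplectic_type (hF : Fintype.card F = q ^ 2) {H N : Subgroup (GL (Fin 8) F)}
    (hHU : H ≤ Cfsg.GU 8 F q) (hNH : N ≤ H) (hNn : ∀ g ∈ H, ∀ x ∈ N, g * x * g⁻¹ ∈ N)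
    (hNs : ¬ N ≤ scalars (Fin 8) F)
    (hmin : ∀ M : Subgroup (GL (Fin 8) F), M ≤ N → (∀ g ∈ H, ∀ x ∈ M, g * x * g⁻¹ ∈ M) →
      ¬ M ≤ scalars (Fin 8) F → M = N)
    (habs : ActsAbsolutelyIrreducibly (matrixSet N))
    (hab : ∀ x ∈ N, ∀ y ∈ N, x * y * x⁻¹ * y⁻¹ ∈ scalars (Fin 8) F) :
    (2 : F) ≠ 0 ∧ ∃ R : Subgroup (GL (Fin 8) F), IsSymplecticTypeGroup 2 R ∧
      ActsAbsolutelyIrreducibly (matrixSet R) ∧ (∀ g ∈ H, ∀ x ∈ R, g * x * g⁻¹ ∈ R) ∧
      R ≤ similarityGroup (Cfsg.hermForm 8 F q) ∧ Nat.card R = 256 ∧ Nat.card (Subgroup.center R) = 4 ∧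
      (∀ x ∈ R, x * x = 1 ∨ x * x = -1) ∧ (∀ x ∈ R, ∀ y ∈ R, y * x = x * y ∨ y * x = -(x * y)) := by
  classical
  haveI : Nonempty (Fin 8) := ⟨0⟩
  set Sc := scalars (Fin 8) F with hSc
  haveI : Sc.Normal := scalars_normal
  have hcN : ⁅N, N⁆ ≤ Sc := Subgroup.commutator_le.2 fun x hx y hy => by
    rw [commutatorElement_def]; exact hab x hx y hy
  have hcard : Nat.card (N ⧸ Sc.subgroupOf N) = 64 := by
    rw [LinearMax.card_quotient habs hcN]; simp
  -- squares are scalars
  have hsqN : ∀ x ∈ N, ∃ a : F, (x : MM) * (x : MM) = a • 1 := by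
    let N2 : Subgroup (GL (Fin 8) F) :=
      { carrier := {x | x ∈ N ∧ x * x ∈ Sc}
        one_mem' := ⟨N.one_mem, by rw [mul_one]; exact Subgroup.one_mem _⟩
        mul_mem' := fun {x y} hx hy => ⟨N.mul_mem hx.1 hy.1, by
          have hc := hab y hy.1 x hx.1
          obtain ⟨c, hc'⟩ := (mem_scalars_iff _).1 hc
          have hcent : (y * x * y⁻¹ * x⁻¹) * x = x * (y * x * y⁻¹ * x⁻¹) := Units.ext (by
            rw [Units.val_mul, Units.val_mul x, hc', smul_mul_assoc, mul_smul_comm, one_mul, mul_one])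
          rw [show x * y * (x * y) = x * (y * x * y⁻¹ * x⁻¹) * x * (y * y) by group, ← hcent,
            mul_assoc _ x x]
          exact mul_mem (mul_mem hc hx.2) hy.2⟩
        inv_mem' := fun {x} hx => ⟨N.inv_mem hx.1, by rw [← _root_.mul_inv_rev]; exact inv_mem hx.2⟩ }
    have hN2 : N2 = N := hmin N2 (fun z hz => hz.1) (fun g hg z hz => ⟨hNn g hg z hz.1, by
        rw [show g * z * g⁻¹ * (g * z * g⁻¹) = g * (z * z) * g⁻¹ by group]
        exact scalars_normal.conj_mem _ hz.2 g⟩) (fun hle => by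
      haveI : Fact (Nat.Prime 2) := ⟨Nat.prime_two⟩
      obtain ⟨a, ha⟩ := exists_prime_orderOf_dvd_card' (G := N ⧸ Sc.subgroupOf N) 2 (by rw [hcard]; norm_num)
      obtain ⟨x, rfl⟩ := QuotientGroup.mk_surjective a
      have h2 : (x : GL (Fin 8) F) * x ∈ Sc := by
        have h := pow_orderOf_eq_one (QuotientGroup.mk x : N ⧸ Sc.subgroupOf N)
        rw [ha, ← QuotientGroup.mk_pow, QuotientGroup.eq_one_iff, Subgroup.mem_subgroupOf, pow_two] at h
        exact h
      have : (QuotientGroup.mk x : N ⧸ Sc.subgroupOf N) = 1 :=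
        (QuotientGroup.eq_one_iff _).2 (Subgroup.mem_subgroupOf.2 (hle ⟨x.2, h2⟩))
      rw [this, orderOf_one] at ha; omega)
    intro x hx
    obtain ⟨a, ha⟩ := (mem_scalars_iff _).1 ((hN2.symm ▸ hx : x ∈ N2)).2
    exact ⟨a, by rw [← Units.val_mul]; exact ha⟩
  -- commutators are signs
  have hsgn : ∀ x ∈ N, ∀ z ∈ N, (z : MM) * x = (x : MM) * z ∨ (z : MM) * x = -((x : MM) * z) := by
    intro x hx z hz
    obtain ⟨c, hc⟩ := (mem_scalars_iff _).1 (hab z hz x hx)
    have h1 : (z : MM) * x = (c : F) • ((x : MM) * z) := by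
      have := congrArg (fun M => M * ((x : MM) * z)) hc
      simp only [Units.val_mul, smul_mul_assoc, one_mul] at this
      rw [← this]
      simp only [mul_assoc, Units.inv_mul_cancel_left, Units.inv_mul, mul_one]
    obtain ⟨a, ha⟩ := hsqN x hx
    have ha0 : a ≠ 0 := fun h => (x * x).ne_zero (by rw [Units.val_mul, ha, h, zero_smul])
    have h2 : a • (z : MM) = ((c : F) * c * a) • (z : MM) := by
      calc a • (z : MM) = (z : MM) * ((x : MM) * x) := by rw [ha, mul_smul_comm, mul_one]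
        _ = ((c : F) * c) • (((x : MM) * x) * z) := by
          rw [← mul_assoc, h1, smul_mul_assoc, mul_assoc, h1, mul_smul_comm, smul_smul, mul_assoc]
        _ = _ := by rw [ha, smul_mul_assoc, one_mul, smul_smul]
    have h3 : (c : F) * c = 1 := by
      have := smul_left_injective F z.ne_zero h2
      field_simp at this
      linear_combination -this
    rcases mul_self_eq_one_iff.1 h3 with h | h
    · left; rw [h1, h, one_smul]
    · right; rw [h1, h, neg_one_smul]
  -- odd characteristic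
  have h2 : (2 : F) ≠ 0 := fun h2 => hNs fun x hx => by
    obtain ⟨c, hc⟩ := habs.2 (x : MM) (by
      rintro _ ⟨z, hz, rfl⟩
      rcases hsgn z hz x hx with h | h
      · exact h
      · rw [h]
        have : ((z : MM) * x) + ((z : MM) * x) = 0 := by rw [← two_smul F, h2, zero_smul]
        exact neg_eq_of_add_eq_zero_left this)
    exact mem_scalars_smul hc
  refine ⟨h2, ?_⟩
  obtain ⟨i, hi⟩ : ∃ i : F, i * i = -1 := by
    obtain ⟨i, hi⟩ : IsSquare (-1 : F) := by
      rw [FiniteField.isSquare_neg_one_iff, hF]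
      rcases Nat.even_or_odd q with ⟨k, rfl⟩ | ⟨k, rfl⟩ <;> ring_nf <;> omega
    exact ⟨i, hi.symm⟩
  have hi0 : i ≠ 0 := fun h => by rw [h, mul_zero] at hi; exact neg_ne_zero.2 one_ne_zero hi.symm
  let I : GL (Fin 8) F := Units.map (Matrix.scalar (Fin 8)).toMonoidHom (Units.mk0 i hi0)
  have hI : (I : MM) = i • (1 : MM) := by simp [I, Matrix.smul_one_eq_diagonal]
  let R : Subgroup (GL (Fin 8) F) :=
    { carrier := {y | (∃ x ∈ N, ∃ c : F, (y : MM) = c • (x : MM)) ∧ (y * y = 1 ∨ y * y = -1)}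
      one_mem' := ⟨⟨1, N.one_mem, 1, by simp⟩, Or.inl (mul_one _)⟩
      mul_mem' := fun {y w} hy hw => by
        obtain ⟨⟨x, hx, c, hc⟩, hy2⟩ := hy
        obtain ⟨⟨z, hz, d, hd⟩, hw2⟩ := hw
        refine ⟨⟨x * z, N.mul_mem hx hz, c * d, by
          rw [Units.val_mul, hc, hd, smul_mul_smul_comm, Units.val_mul]⟩, ?_⟩
        have hsw : w * y = y * w ∨ w * y = -(y * w) := by
          rcases hsgn x hx z hz with h | h
          · left; apply Units.ext; rw [Units.val_mul, Units.val_mul, hc, hd, smul_mul_smul_comm,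
              smul_mul_smul_comm, h, mul_comm d c]
          · right; apply Units.ext; rw [Units.val_neg, Units.val_mul, Units.val_mul, hc, hd, smul_mul_smul_comm,
              smul_mul_smul_comm, h, mul_comm d c, smul_neg]
        have e : y * w * (y * w) = y * (w * y) * w := by group
        rw [e]
        rcases hsw with h | h <;> rw [h] <;> rcases hy2 with a | a <;> rcases hw2 with b | b <;>
          simp [mul_neg, neg_mul, ← mul_assoc, a] <;> simp [b]
      inv_mem' := fun {y} hy => by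
        obtain ⟨⟨x, hx, c, hc⟩, hy2⟩ := hy
        refine ⟨⟨x⁻¹, N.inv_mem hx, c⁻¹, ?_⟩, ?_⟩
        · have hc0 : c ≠ 0 := fun h => y.ne_zero (by rw [hc, h, zero_smul])
          refine Units.inv_eq_of_mul_eq_one_right ?_
          rw [hc, smul_mul_smul_comm, mul_inv_cancel₀ hc0, one_smul, Units.mul_inv]
        · rw [← _root_.mul_inv_rev]
          rcases hy2 with a | a <;> rw [a] <;> simp }
  have hsqR : ∀ x ∈ R, x * x = 1 ∨ x * x = -1 := fun x hx => hx.2
  have hcomR : ∀ x ∈ R, ∀ y ∈ R, y * x = x * y ∨ y * x = -(x * y) := by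
    rintro y ⟨⟨x, hx, c, hc⟩, -⟩ w ⟨⟨z, hz, d, hd⟩, -⟩
    rcases hsgn x hx z hz with h | h
    · left; apply Units.ext; rw [Units.val_mul, Units.val_mul, hc, hd, smul_mul_smul_comm,
        smul_mul_smul_comm, h, mul_comm d c]
    · right; apply Units.ext; rw [Units.val_neg, Units.val_mul, Units.val_mul, hc, hd, smul_mul_smul_comm,
        smul_mul_smul_comm, h, mul_comm d c, smul_neg]
  have hGU : ∀ x ∈ N, ∀ u v, Cfsg.hermForm 8 F q ((x : MM) *ᵥ u) ((x : MM) *ᵥ v) = Cfsg.hermForm 8 F q u v :=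
    fun x hx u v => hHU (hNH hx) u v
  have hh := UnitTwoPrime.herm_hermForm (n := 8) hF
  set σ : F →+* F := Geometry.frobQ hF with hσdef
  set f := Cfsg.hermForm 8 F q with hf
  have hsimf : ∀ (M : MM) (c : F) u v, f ((c • M) *ᵥ u) ((c • M) *ᵥ v) = c * σ c * f (M *ᵥ u) (M *ᵥ v) := by
    intro M c u v
    rw [Matrix.smul_mulVec, Matrix.smul_mulVec, hh.smul_left, hh.smul_right, mul_assoc]
  -- every element of `N` has a multiple in `R`
  have hlift : ∀ x ∈ N, ∃ y ∈ R, ∃ c : F, c ≠ 0 ∧ (x : MM) = c • (y : MM) := by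
    intro x hx
    obtain ⟨a, ha⟩ := hsqN x hx
    have hnorm : a * σ a = 1 := by
      obtain ⟨u, v, huv⟩ : ∃ u v, f u v ≠ 0 := by
        obtain ⟨-, v, hv⟩ := hh.nondegenerate (Pi.single 0 1) (by simp)
        exact ⟨_, v, hv⟩
      have e := hGU x hx ((x : MM) *ᵥ u) ((x : MM) *ᵥ v)
      rw [hGU x hx u v, Matrix.mulVec_mulVec, Matrix.mulVec_mulVec, ha, hsimf, Matrix.one_mulVec,
        Matrix.one_mulVec] at e
      exact mul_right_cancel₀ huv (e.trans (one_mul _).symm)
    have ha0 : a ≠ 0 := left_ne_zero_of_mul_eq_one hnorm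
    obtain ⟨l, hl⟩ : IsSquare a := by
      rw [FiniteField.isSquare_iff (fun h => h2 (by
        haveI := ringChar.charP F
        rw [h] at *
        exact_mod_cast (CharP.cast_eq_zero F 2))) ha0, hF]
      rw [hσdef, Geometry.frobQ_apply, ← pow_succ'] at hnorm
      obtain ⟨k, hk⟩ : Odd q := by
        by_contra hev
        rw [Nat.not_odd_iff_even] at hev
        obtain ⟨p, hp⟩ := CharP.exists F
        haveI := hp
        obtain ⟨k, hprime, hk⟩ := FiniteField.card F p
        have h2d : 2 ∣ p ^ (k : ℕ) := by rw [← hk, hF]; exact dvd_pow (even_iff_two_dvd.mp hev) two_ne_zero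
        obtain rfl : 2 = p := (Nat.prime_dvd_prime_iff_eq Nat.prime_two hprime).mp (Nat.prime_two.dvd_of_dvd_pow h2d)
        exact h2 (by exact_mod_cast (CharP.cast_eq_zero F 2))
      rw [show q ^ 2 / 2 = (q + 1) * k by subst hk; ring_nf; omega, pow_mul, hnorm, one_pow]
    have hl0 : l ≠ 0 := fun h => ha0 (by rw [hl, h, mul_zero])
    let y : GL (Fin 8) F := Units.map (Matrix.scalar (Fin 8)).toMonoidHom (Units.mk0 l⁻¹ (inv_ne_zero hl0)) * x
    have hy : (y : MM) = l⁻¹ • (x : MM) := by simp [y, ← Matrix.smul_eq_diagonal_mul]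
    refine ⟨y, ⟨⟨x, hx, l⁻¹, hy⟩, Or.inl (Units.ext ?_)⟩, l, hl0, ?_⟩
    · rw [Units.val_mul, hy, smul_mul_smul_comm, ha, smul_smul, hl, Units.val_one]
      field_simp
      rw [one_smul]
    · rw [hy, smul_smul, mul_inv_cancel₀ hl0, one_smul]
  have habsR : ActsAbsolutelyIrreducibly (matrixSet R) := by
    refine ⟨fun W hW => habs.1 W ?_, fun M hM => habs.2 M ?_⟩
    · rintro _ ⟨x, hx, rfl⟩ _ ⟨w, hw, rfl⟩
      obtain ⟨y, hy, c, -, hc⟩ := hlift x hx
      show (x : MM) *ᵥ w ∈ W
      rw [hc, Matrix.smul_mulVec]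
      exact W.smul_mem c (hW _ ⟨y, hy, rfl⟩ ⟨w, hw, rfl⟩)
    · rintro _ ⟨x, hx, rfl⟩
      obtain ⟨y, hy, c, -, hc⟩ := hlift x hx
      show M * (x : MM) = (x : MM) * M
      rw [hc, mul_smul_comm, smul_mul_assoc, hM _ ⟨y, hy, rfl⟩]
  have hRn : ∀ g ∈ H, ∀ x ∈ R, g * x * g⁻¹ ∈ R := by
    rintro g hg y ⟨⟨x, hx, c, hc⟩, hy2⟩
    refine ⟨⟨g * x * g⁻¹, hNn g hg x hx, c, by simp [hc]⟩, ?_⟩
    rw [show g * y * g⁻¹ * (g * y * g⁻¹) = g * (y * y) * g⁻¹ by group]
    rcases hy2 with a | a <;> rw [a] <;> simp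
  have hsim : R ≤ similarityGroup f := by
    rintro y ⟨⟨x, hx, c, hc⟩, -⟩
    have hc0 : c ≠ 0 := fun h => y.ne_zero (by rw [hc, h, zero_smul])
    exact ⟨Units.mk0 (c * σ c) (mul_ne_zero hc0 (by simpa using hc0)), fun u v => by
      rw [hc, hsimf, hGU x hx, Units.val_mk0]⟩
  -- the scalars in `R`
  have hZ : ∀ y ∈ R, y ∈ Sc → y = 1 ∨ y = -1 ∨ y = I ∨ y = -I := by
    intro y hy hys
    obtain ⟨c, hc⟩ := (mem_scalars_iff y).1 hys
    have key : ∀ d : F, (y * y : GL (Fin 8) F).val = d • (1 : MM) → (c : F) * c = d := fun d hd => by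
      rw [Units.val_mul, hc, smul_mul_smul_comm, mul_one] at hd
      exact smul_left_injective F (one_ne_zero (α := MM)) hd
    rcases hsqR y hy with h | h
    · rcases mul_self_eq_one_iff.1 (key 1 (by rw [h]; simp)) with e | e
      · left; exact Units.ext (by rw [hc, e]; simp)
      · right; left; exact Units.ext (by rw [hc, e]; simp)
    · have e := key (-1) (by rw [h]; simp)
      have : ((c : F) - i) * ((c : F) + i) = 0 := by linear_combination e - hi
      rcases mul_eq_zero.1 this with e' | e'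
      · right; right; left; exact Units.ext (by rw [hc, hI, sub_eq_zero.1 e'])
      · right; right; right; exact Units.ext (by rw [hc, Units.val_neg, hI, eq_neg_of_add_eq_zero_left e', neg_smul])
  have hIR : I ∈ R := ⟨⟨1, N.one_mem, i, by rw [hI]; rfl⟩, Or.inr (Units.ext (by
    rw [Units.val_mul, hI, smul_mul_smul_comm, hi, mul_one]; simp))⟩
  have hn1 : (-1 : F) ≠ 1 := fun h => h2 (by linear_combination -h)
  have hI2 : I * I = -1 := Units.ext (by rw [Units.val_mul, hI, smul_mul_smul_comm, hi, mul_one]; simp)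
  have hm1 : (-1 : GL (Fin 8) F) ≠ 1 := fun h => hn1 (by
    have := congrArg (fun u : GL (Fin 8) F => (u : MM) 0 0) h; simpa using this)
  have hord : orderOf (⟨I, hIR⟩ : R) = 4 := by
    haveI : Fact (Nat.Prime 2) := ⟨Nat.prime_two⟩
    refine orderOf_eq_prime_pow (p := 2) (n := 1) ?_ ?_
    · intro h
      have h' := congrArg Subtype.val h
      simp only [pow_one, pow_two, Subgroup.coe_mul, Subgroup.coe_one, hI2] at h'
      exact hm1 h'
    · apply Subtype.ext
      rw [SubgroupClass.coe_pow, show (2 : ℕ) ^ (1 + 1) = 2 + 2 from rfl, pow_add, pow_two, hI2]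
      simp
  have hcen : Subgroup.center R = Subgroup.zpowers (⟨I, hIR⟩ : R) := by
    apply le_antisymm
    · intro y hy
      have hys : (y : GL (Fin 8) F) ∈ Sc := by
        obtain ⟨c, hc⟩ := habsR.2 ((y : GL (Fin 8) F) : MM) (by
          rintro _ ⟨z, hz, rfl⟩
          exact (congrArg (fun w : R => ((w : GL (Fin 8) F) : MM)) (Subgroup.mem_center_iff.1 hy ⟨z, hz⟩)).symm)
        exact mem_scalars_smul hc
      have hI' : (⟨I, hIR⟩ : R) ∈ Subgroup.zpowers (⟨I, hIR⟩ : R) := Subgroup.mem_zpowers _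
      have hn : ∀ z : R, (z : GL (Fin 8) F) = -1 → z ∈ Subgroup.zpowers (⟨I, hIR⟩ : R) := fun z hz => by
        rw [show z = ⟨I, hIR⟩ * ⟨I, hIR⟩ from Subtype.ext (by rw [hz, Subgroup.coe_mul, hI2])]
        exact mul_mem hI' hI'
      rcases hZ y y.2 hys with h | h | h | h
      · rw [show y = 1 from Subtype.ext h]; exact one_mem _
      · exact hn y h
      · rw [show y = ⟨I, hIR⟩ from Subtype.ext h]; exact hI'
      · rw [show y = ⟨I, hIR⟩ * (⟨I, hIR⟩ * ⟨I, hIR⟩) from Subtype.ext (by simp [h, hI2])]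
        exact mul_mem hI' (mul_mem hI' hI')
    · rw [Subgroup.zpowers_le, Subgroup.mem_center_iff]
      intro z
      apply Subtype.ext
      apply Units.ext
      simp [hI]
  have hccard : Nat.card (Subgroup.center R) = 4 := by rw [hcen, Nat.card_zpowers, hord]
  have hsub : Sc.subgroupOf R = Subgroup.center R := by
    rw [hcen]
    apply le_antisymm
    · rw [← hcen]
      intro y hy
      rw [Subgroup.mem_center_iff]
      intro z
      apply Subtype.ext
      apply Units.ext
      obtain ⟨c, hc⟩ := (mem_scalars_iff _).1 (Subgroup.mem_subgroupOf.1 hy)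
      simp [hc]
    · rw [Subgroup.zpowers_le]
      exact Subgroup.mem_subgroupOf.2 (mem_scalars_smul hI)
  have hcR : ⁅R, R⁆ ≤ Sc := Subgroup.commutator_le.2 fun x hx y hy => by
    rw [commutatorElement_def]
    rcases hcomR y hy x hx with h | h
    · rw [h]; simp
    · rw [h]
      exact mem_scalars_smul (c := -1) (by simp)
  have hRcard : Nat.card R = 256 := by
    rw [Subgroup.card_eq_card_quotient_mul_card_subgroup (Sc.subgroupOf R),
      LinearMax.card_quotient habsR hcR, hsub, hccard]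
    simp
  refine ⟨R, ⟨Nat.prime_two, IsPGroup.of_card (n := 8) (by rw [hRcard]; norm_num), ?_, ?_⟩, habsR, hRn, hsim, hRcard,
    hccard, hsqR, hcomR⟩
  · -- characteristic abelian subgroups are central
    intro A hA hAc
    have hAZ : A ≤ Subgroup.center R := by
      by_contra hnot
      let M : Subgroup (GL (Fin 8) F) :=
        { carrier := {x | x ∈ N ∧ ∃ a ∈ A, ∃ c : F, (x : MM) = c • ((a : GL (Fin 8) F) : MM)}
          one_mem' := ⟨N.one_mem, 1, one_mem _, 1, by simp⟩
          mul_mem' := fun {x y} hx hy => by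
            obtain ⟨hx1, a, ha, c, hc⟩ := hx
            obtain ⟨hy1, b, hb, d, hd⟩ := hy
            exact ⟨N.mul_mem hx1 hy1, a * b, mul_mem ha hb, c * d, by
              rw [Units.val_mul, hc, hd, smul_mul_smul_comm, Subgroup.coe_mul, Units.val_mul]⟩
          inv_mem' := fun {x} hx => by
            obtain ⟨hx1, a, ha, c, hc⟩ := hx
            refine ⟨N.inv_mem hx1, a⁻¹, inv_mem ha, c⁻¹, ?_⟩
            have hc0 : c ≠ 0 := fun h => x.ne_zero (by rw [hc, h, zero_smul])
            refine Units.inv_eq_of_mul_eq_one_right ?_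
            rw [hc, smul_mul_smul_comm, mul_inv_cancel₀ hc0, one_smul, Subgroup.coe_inv, Units.mul_inv] }
      have hMn : ∀ g ∈ H, ∀ x ∈ M, g * x * g⁻¹ ∈ M := by
        rintro g hg x ⟨hx1, a, ha, c, hc⟩
        let α : R ≃* R :=
          { toFun := fun z => ⟨g * z * g⁻¹, hRn g hg z z.2⟩
            invFun := fun z => ⟨g⁻¹ * z * g, by simpa using hRn g⁻¹ (inv_mem hg) z z.2⟩
            left_inv := fun z => Subtype.ext (by simp [mul_assoc])
            right_inv := fun z => Subtype.ext (by simp [mul_assoc])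
            map_mul' := fun z w => Subtype.ext (by simp [mul_assoc]) }
        refine ⟨hNn g hg x hx1, α a, ?_, c, by simp [α, hc]⟩
        have := hA.fixed α
        exact (SetLike.ext_iff.1 this a).2 ha
      have hMs : ¬ M ≤ Sc := fun hle => hnot fun a ha => by
        obtain ⟨x, hx, c, hc⟩ := a.2.1
        have hxM : x ∈ M := by
          have hc0 : c ≠ 0 := fun h => (a : GL (Fin 8) F).ne_zero (by rw [hc, h, zero_smul])
          exact ⟨hx, a, ha, c⁻¹, by rw [hc, smul_smul, inv_mul_cancel₀ hc0, one_smul]⟩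
        obtain ⟨d, hd⟩ := (mem_scalars_iff x).1 (hle hxM)
        rw [← hsub, Subgroup.mem_subgroupOf]
        exact mem_scalars_smul (c := c * d) (by rw [hc, hd, smul_smul])
      have hMN : M = N := hmin M (fun x hx => hx.1) hMn hMs
      refine hNs fun x hx => ?_
      obtain ⟨c, hc⟩ := habs.2 (x : MM) (by
        rintro _ ⟨z, hz, rfl⟩
        obtain ⟨-, a, ha, c, hc⟩ := (hMN.symm ▸ hx : x ∈ M)
        obtain ⟨-, b, hb, d, hd⟩ := (hMN.symm ▸ hz : z ∈ M)
        have := congrArg (fun w : R => ((w : GL (Fin 8) F) : MM)) (congrArg Subtype.val (hAc.is_comm.comm ⟨a, ha⟩ ⟨b, hb⟩))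
        simp only [Subgroup.coe_mul, Units.val_mul] at this
        show (x : MM) * (z : MM) = (z : MM) * (x : MM)
        rw [hc, hd, smul_mul_smul_comm, smul_mul_smul_comm, this, mul_comm c d])
      exact mem_scalars_smul hc
    haveI : IsCyclic (Subgroup.center R) := by rw [hcen]; infer_instance
    exact isCyclic_of_injective (Subgroup.inclusion hAZ) (Subgroup.inclusion_injective hAZ)
  · -- exponent four
    apply Nat.dvd_antisymm
    · refine Monoid.exponent_dvd_of_forall_pow_eq_one fun z => Subtype.ext ?_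
      rw [SubgroupClass.coe_pow, show 2 * Nat.gcd 2 2 = 2 + 2 from rfl, pow_add, pow_two]
      rcases hsqR z z.2 with h | h <;> simp [h]
    · have := Monoid.order_dvd_exponent (⟨I, hIR⟩ : R)
      rw [hord] at this
      exact this

end Cfsg.Agent.Lib.UnitEight
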