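import Cfsg.Agent.Lib.UnitEight.ClassTwo
import Cfsg.Agent.Lib.UnitMax.Forms
import Cfsg.Agent.Lib.PrimeDim.FormDescent

/-!
Outside the case `q = p ≡ 3 mod 4` a symplectic-type `2`-group gives a group of isometries realisable over a proper
subfield.
-/

set_option autoImplicit false

namespace Cfsg.Agent.Lib.UnitEight

open Cfsg.Geo Matrix
open scoped MatrixGroups

variable {F : Type*} [Field F] [Fintype F] {q n : ℕ}

/-- The subfield and the two constants needed for realising a symplectic-type group. -/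
theorem exists_small_field (hF : Fintype.card F = q ^ 2) (h2 : (2 : F) ≠ 0)
    (hne : ¬ ∃ p : ℕ, p.Prime ∧ q = p ∧ p % 4 = 3) :
    ∃ (F₁ : Subfield F) (i s : F), F₁ ≠ ⊤ ∧ i ^ 2 = -1 ∧ i ∈ F₁ ∧ s ∈ F₁ ∧ s * s ^ q = -1 := by
  classical
  obtain ⟨p, hp⟩ := CharP.exists F
  haveI := hp
  obtain ⟨k, hprime, hk⟩ := FiniteField.card F p
  haveI : Fact p.Prime := ⟨hprime⟩
  haveI : ExpChar F p := ExpChar.prime hprime
  obtain ⟨m, -, hm⟩ : ∃ m, m ≤ (k : ℕ) ∧ q = p ^ m :=
    (Nat.dvd_prime_pow hprime).1 (by rw [← hk, hF]; exact dvd_pow_self q two_ne_zero)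
  have hp2 : p % 2 = 1 := by
    rcases hprime.eq_two_or_odd with rfl | h
    · exact absurd (by exact_mod_cast (CharP.cast_eq_zero F 2)) h2
    · exact h
  obtain ⟨i, hi⟩ : IsSquare (-1 : F) := by
    rw [FiniteField.isSquare_neg_one_iff, hF]
    rcases Nat.even_or_odd q with ⟨a, rfl⟩ | ⟨a, rfl⟩ <;> ring_nf <;> omega
  have hi2 : i ^ 2 = -1 := by rw [pow_two, ← hi]
  have hi4 : ∀ a : ℕ, a % 4 = 1 → i ^ a = i := fun a ha => by
    rw [← Nat.div_add_mod a 4, ha, pow_add, pow_mul, show i ^ 4 = (i ^ 2) ^ 2 by ring, hi2]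
    simp
  have hq2 : q % 2 = 1 := by simp [hm, Nat.pow_mod, hp2]
  rcases (by omega : q % 4 = 1 ∨ q % 4 = 3) with h1 | h3
  · let F0 : Subfield F := RingHom.eqLocusField (Classical.conjHom hF) (RingHom.id F)
    have hmem : ∀ a : F, a ∈ F0 ↔ a ^ q = a := fun a => by
      show Classical.conjHom hF a = a ↔ _
      rw [Classical.conjHom_apply]
    refine ⟨F0, i, i, fun htop => ?_, hi2, (hmem i).2 (hi4 q h1), (hmem i).2 (hi4 q h1), ?_⟩
    · exact Classical.conjHom_ne_id hF (RingHom.ext fun a => (htop.symm ▸ Subfield.mem_top a : a ∈ F0))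
    · rw [hi4 q h1, ← hi]
  · have hp4 : p % 4 = 3 := by
      by_contra h
      have : p % 4 = 1 := by omega
      rw [hm, Nat.pow_mod, this, one_pow] at h3
      omega
    have hmodd : Odd m := by
      by_contra h
      obtain ⟨a, rfl⟩ := Nat.not_odd_iff_even.1 h
      rw [hm, ← two_mul, pow_mul, Nat.pow_mod, Nat.pow_mod p, hp4] at h3
      norm_num at h3
    have hm2 : 2 ≤ m := by
      by_contra h
      obtain ⟨a, ha⟩ := hmodd
      have : m = 1 := by omega
      exact hne ⟨p, hprime, by rw [hm, this, pow_one], hp4⟩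
    let F0 : Subfield F := RingHom.eqLocusField (iterateFrobenius F p 2) (RingHom.id F)
    have hmem : ∀ a : F, a ∈ F0 ↔ a ^ p ^ 2 = a := fun a => by
      show iterateFrobenius F p 2 a = a ↔ _
      rw [iterateFrobenius_def]
    -- the norm of `q + 1` is a power of that of `p + 1`
    obtain ⟨t, ht⟩ : p + 1 ∣ q + 1 := by
      rw [hm]
      simpa using Odd.nat_add_dvd_pow_add_pow p 1 hmodd
    have hpe : (p + 1) % 2 = 0 := by omega
    have htodd : Odd t := by
      -- `p ^ m + 1 ≡ m (p + 1)` modulo `(p + 1) ^ 2`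
      obtain ⟨d, hd⟩ : ∃ d : ℤ, (p : ℤ) ^ m + 1 = m * ((p : ℤ) + 1) + d * ((p : ℤ) + 1) ^ 2 := by
        obtain ⟨b, rfl⟩ := hmodd
        clear hm hm2
        induction b with
        | zero => exact ⟨0, by simp⟩
        | succ b ih =>
          obtain ⟨d, hd⟩ := ih
          refine ⟨(p : ℤ) ^ 2 * d + (2 * b + 1) * ((p : ℤ) - 1) - 1, ?_⟩
          rw [show 2 * (b + 1) + 1 = (2 * b + 1) + 2 by ring, pow_add]
          push_cast at hd ⊢
          linear_combination (p : ℤ) ^ 2 * hd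
      have h1 : (t : ℤ) = m + d * ((p : ℤ) + 1) := by
        apply mul_left_cancel₀ (show ((p : ℤ) + 1) ≠ 0 by positivity)
        have : ((p : ℤ) + 1) * t = (p : ℤ) ^ m + 1 := by
          rw [hm] at ht; exact_mod_cast ht.symm
        linear_combination this + hd
      obtain ⟨b, rfl⟩ := hmodd
      obtain ⟨e, he⟩ : ∃ e : ℕ, p + 1 = 2 * e := ⟨(p + 1) / 2, by omega⟩
      rw [show (p : ℤ) + 1 = 2 * e by exact_mod_cast he] at h1
      rw [← Int.odd_coe_nat]
      exact ⟨b + d * e, by rw [h1]; push_cast; ring⟩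
    obtain ⟨g, hg⟩ := IsCyclic.exists_generator (α := Fˣ)
    have hord : orderOf g = q ^ 2 - 1 := by
      rw [orderOf_eq_card_of_forall_mem_zpowers hg, Nat.card_eq_fintype_card, Fintype.card_units, hF]
    obtain ⟨a, ha⟩ : 2 * (p + 1) ∣ q ^ 2 - 1 := by
      have : q ^ 2 - 1 = (q + 1) * (q - 1) := by simpa using Nat.sq_sub_sq q 1
      rw [this, mul_comm 2]
      exact Nat.mul_dvd_mul ⟨t, ht⟩ (by omega)
    have hQ : 1 < q ^ 2 := by rw [← hF]; exact Fintype.one_lt_card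
    have hpos : 0 < a := Nat.pos_of_ne_zero fun h => by rw [h, mul_zero] at ha; omega
    set s : F := ((g ^ a : Fˣ) : F)
    have hs : s ^ (p + 1) = -1 := by
      have hsq : (g ^ (a * (p + 1))) ^ 2 = 1 := by
        rw [← pow_mul, show a * (p + 1) * 2 = q ^ 2 - 1 by rw [ha]; ring, ← hord, pow_orderOf_eq_one]
      have hne1 : g ^ (a * (p + 1)) ≠ 1 := fun h => by
        have := Nat.le_of_dvd (Nat.mul_pos hpos (by omega)) (orderOf_dvd_of_pow_eq_one h)
        rw [hord, ha] at this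
        nlinarith
      rcases mul_self_eq_one_iff.1 (show ((g ^ (a * (p + 1)) : Fˣ) : F) * ((g ^ (a * (p + 1)) : Fˣ) : F) = 1 by
        rw [← Units.val_mul, ← pow_two, hsq, Units.val_one]) with h | h
      · exact absurd (Units.ext h) hne1
      · rw [← Units.val_pow_eq_pow_val, ← pow_mul]; exact h
    have hp1 : 1 ≤ p ^ 2 := Nat.one_le_pow _ _ hprime.pos
    refine ⟨F0, i, s, fun htop => ?_, hi2, (hmem i).2 (hi4 _ ?_), (hmem s).2 ?_, ?_⟩
    · have h1 : g ^ (p ^ 2 - 1) = 1 := by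
        have h := (hmem (g : F)).1 (htop.symm ▸ Subfield.mem_top _)
        rw [← Nat.sub_add_cancel hp1, pow_succ] at h
        exact Units.ext (by rw [Units.val_pow_eq_pow_val, Units.val_one]
                            exact mul_right_cancel₀ g.ne_zero (h.trans (one_mul _).symm))
      have h4 : 2 ≤ p := hprime.two_le
      have := Nat.le_of_dvd (by nlinarith [Nat.sub_add_cancel hp1]) (orderOf_dvd_of_pow_eq_one h1)
      rw [hord] at this
      have h5 : p ^ 2 < q ^ 2 := by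
        rw [hm]
        exact Nat.pow_lt_pow_left (by
          calc p = p ^ 1 := (pow_one p).symm
            _ < p ^ m := Nat.pow_lt_pow_right (by omega) (by omega)) two_ne_zero
      omega
    · rw [Nat.pow_mod, hp4]
    · obtain ⟨b, hb⟩ : Odd p := Nat.odd_iff.2 hp2
      rw [show p ^ 2 = (p + 1) * (2 * b) + 1 by rw [hb]; ring, pow_succ, pow_mul, hs,
        Even.neg_one_pow ⟨b, by ring⟩, one_mul]
    · rw [← pow_succ', ht, pow_mul, hs, htodd.neg_one_pow]

/-- A symplectic-type group of similitudes gives a subfield group, except for `q = p ≡ 3 mod 4`. -/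
theorem field_cases (hF : Fintype.card F = q ^ 2) {H R : Subgroup (GL (Fin n) F)} (hn : 4 ≤ n)
    (hH : IsMaximalIn (UnitPrimeDim.omegaU n F q) H) (h2 : (2 : F) ≠ 0)
    (habs : ActsAbsolutelyIrreducibly (matrixSet R)) (hRn : ∀ g ∈ H, ∀ x ∈ R, g * x * g⁻¹ ∈ R)
    (hsim : R ≤ similarityGroup (Cfsg.hermForm n F q)) (hsq : ∀ x ∈ R, x * x = 1 ∨ x * x = -1)
    (hne : ¬ ∃ p : ℕ, p.Prime ∧ q = p ∧ p % 4 = 3)
    (hreal : ∀ (F₁ : Subfield F) (i : F), i ^ 2 = -1 → i ∈ F₁ → RealisableOver F₁ (matrixSet R)) :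
    UnitMax.FormCases q H := by
  classical
  obtain ⟨F₁, i, s, h1, hi, hiF, hsF, hs⟩ := exists_small_field hF h2 hne
  have hh := UnitTwoPrime.herm_hermForm (n := n) hF
  set f := Cfsg.hermForm n F q with hf
  haveI : Nonempty (Fin n) := ⟨⟨0, by omega⟩⟩
  set σ : F →+* F := Geometry.frobQ hF with hσ
  have hσq : ∀ a, σ a = a ^ q := fun a => Geometry.frobQ_apply hF a
  let P : Subgroup (GL (Fin n) F) :=
    { carrier := {z | z ∈ Cfsg.GU n F q ∧ ∃ c ∈ F₁, ∃ y ∈ R,
        (z : Matrix (Fin n) (Fin n) F) = c • (y : Matrix (Fin n) (Fin n) F)}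
      one_mem' := ⟨one_mem _, 1, F₁.one_mem, 1, one_mem _, by simp⟩
      mul_mem' := fun {a b} ha hb => by
        obtain ⟨ha1, c, hc, x, hx, hax⟩ := ha
        obtain ⟨hb1, d, hd, y, hy, hby⟩ := hb
        exact ⟨mul_mem ha1 hb1, c * d, F₁.mul_mem hc hd, x * y, mul_mem hx hy, by
          rw [Units.val_mul, hax, hby, smul_mul_smul_comm, Units.val_mul]⟩
      inv_mem' := fun {a} ha => by
        obtain ⟨ha1, c, hc, x, hx, hax⟩ := ha
        refine ⟨inv_mem ha1, c⁻¹, F₁.inv_mem hc, x⁻¹, inv_mem hx, ?_⟩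
        have hc0 : c ≠ 0 := fun h => a.ne_zero (by rw [hax, h, zero_smul])
        refine Units.inv_eq_of_mul_eq_one_right ?_
        rw [hax, smul_mul_smul_comm, mul_inv_cancel₀ hc0, one_smul, Units.mul_inv] }
  haveI : Nonempty (Fin n) := ⟨⟨0, by omega⟩⟩
  obtain ⟨B, hB⟩ := hreal F₁ i hi hiF
  refine UnitMax.subfield_cases hF hn (P := P) hH (fun z hz => hz.1) ?_ ?_ h1 ⟨B, ?_⟩
  · rintro g hg z ⟨hz, c, hc, y, hy, hzy⟩
    exact ⟨mul_mem (mul_mem (hH.1.le hg).1 hz) (inv_mem (hH.1.le hg).1), c, hc, g * y * g⁻¹, hRn g hg y hy,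
      by simp [hzy]⟩
  · have hlift : ∀ y ∈ R, ∃ c : F, c ≠ 0 ∧ ∃ z ∈ P,
        (y : Matrix (Fin n) (Fin n) F) = c • (z : Matrix (Fin n) (Fin n) F) := by
      intro y hy
      obtain ⟨ν, hν⟩ := hsim hy
      have hν2 : (ν : F) * ν = 1 := by
        haveI : Nonempty (Fin n) := ⟨⟨0, by omega⟩⟩
        obtain ⟨u, v, huv⟩ : ∃ u v, f u v ≠ 0 := by
          obtain ⟨-, v, hv⟩ := hh.nondegenerate (Pi.single ⟨0, by omega⟩ 1) (by simp)
          exact ⟨_, v, hv⟩
        have e := hν ((y : Matrix (Fin n) (Fin n) F) *ᵥ u) ((y : Matrix (Fin n) (Fin n) F) *ᵥ v)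
        rw [hν u v, Matrix.mulVec_mulVec, Matrix.mulVec_mulVec, ← Units.val_mul] at e
        refine mul_right_cancel₀ huv ?_
        rw [one_mul, mul_assoc, ← e]
        rcases hsq y hy with h | h <;> rw [h]
        · simp
        · simp only [Units.val_neg, Units.val_one, Matrix.neg_mulVec, Matrix.one_mulVec]
          rw [← neg_one_smul F u, ← neg_one_smul F v, hh.smul_left, hh.smul_right, map_neg, map_one]
          ring
      obtain ⟨c, hcF, hc⟩ : ∃ c ∈ F₁, c * σ c * ν = 1 := by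
        rcases mul_self_eq_one_iff.1 hν2 with h | h
        · exact ⟨1, F₁.one_mem, by simp [h]⟩
        · exact ⟨s, hsF, by rw [hσq, hs, h]; ring⟩
      have hc0 : c ≠ 0 := fun h => by rw [h] at hc; simp at hc
      let z : GL (Fin n) F := Units.map (Matrix.scalar (Fin n)).toMonoidHom (Units.mk0 c hc0) * y
      have hz : (z : Matrix (Fin n) (Fin n) F) = c • (y : Matrix (Fin n) (Fin n) F) := by
        simp [z, ← Matrix.smul_eq_diagonal_mul]
      refine ⟨c⁻¹, inv_ne_zero hc0, z, ⟨fun u v => ?_, c, hcF, y, hy, hz⟩, ?_⟩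
      · show f ((z : Matrix (Fin n) (Fin n) F) *ᵥ u) ((z : Matrix (Fin n) (Fin n) F) *ᵥ v) = f u v
        rw [hz, Matrix.smul_mulVec, Matrix.smul_mulVec, hh.smul_left, hh.smul_right, hν]
        linear_combination f u v * hc
      · rw [hz, smul_smul, inv_mul_cancel₀ hc0, one_smul]
    refine ⟨fun W hW => habs.1 W ?_, fun M hM => habs.2 M ?_⟩
    · rintro _ ⟨x, hx, rfl⟩ _ ⟨w, hw, rfl⟩
      obtain ⟨c, -, z, hz, hxz⟩ := hlift x hx
      show (x : Matrix (Fin n) (Fin n) F) *ᵥ w ∈ W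
      rw [hxz, Matrix.smul_mulVec]
      exact W.smul_mem c (hW _ ⟨z, hz, rfl⟩ ⟨w, hw, rfl⟩)
    · rintro _ ⟨x, hx, rfl⟩
      obtain ⟨c, -, z, hz, hxz⟩ := hlift x hx
      show M * (x : Matrix (Fin n) (Fin n) F) = (x : Matrix (Fin n) (Fin n) F) * M
      rw [hxz, mul_smul_comm, smul_mul_assoc, hM _ ⟨z, hz, rfl⟩]
  · rintro _ ⟨z, ⟨-, c, hc, y, hy, hzy⟩, rfl⟩ a b
    show ((B : Matrix (Fin n) (Fin n) F) * (z : Matrix (Fin n) (Fin n) F) *
      ((B⁻¹ : GL (Fin n) F) : Matrix (Fin n) (Fin n) F)) a b ∈ F₁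
    rw [hzy, mul_smul_comm, smul_mul_assoc, Matrix.smul_apply, smul_eq_mul]
    exact F₁.mul_mem hc (hB _ ⟨y, hy, rfl⟩ a b)

end Cfsg.Agent.Lib.UnitEight
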