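import Cfsg.Agent.Lib.TwelveDim.Core

/-!
A minimal non-scalar normal absolutely irreducible subgroup in dimension 8 is abelian modulo scalars, or a core,
or fixes a non-degenerate bilinear form (three tensor factors of degree two).
-/

set_option autoImplicit false

namespace Cfsg.Agent.Lib.UnitEight

open Cfsg.Geo Matrix
open Cfsg.Agent.Lib.SLTwoPrime
open Cfsg.Agent.Lib.TwelveDim (adj_top commute_conj factor)
open Cfsg.Agent.Lib
open scoped MatrixGroups Kronecker commutatorElement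

variable {ι : Type} [Fintype ι] [DecidableEq ι] {F : Type*} [Field F]

/-- The alternating form of degree two. -/
def altTwo (F : Type*) [Field F] : Matrix (Fin 2) (Fin 2) F := !![0, 1; -1, 0]

theorem altTwo_fixed {a : Matrix (Fin 2) (Fin 2) F} (ha : a.det = 1) : aᵀ * altTwo F * a = altTwo F := by
  rw [Matrix.det_fin_two] at ha
  ext i j
  fin_cases i <;> fin_cases j <;> simp [altTwo, Matrix.mul_apply, Fin.sum_univ_two] <;>
    first | ring1 | linear_combination ha | linear_combination -ha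

theorem altTwo_isUnit : IsUnit (altTwo F) := by
  rw [Matrix.isUnit_iff_isUnit_det]
  simp [altTwo, Matrix.det_fin_two]

/-- Transport of a form along a change of coordinates. -/
theorem transport {κ : Type} [Fintype κ] [DecidableEq κ] (f : Matrix κ κ F →ₐ[F] Matrix ι ι F) (e : ι ≃ κ)
    (Q : GL ι F) (hf : ∀ A, f A = cjA Q (Matrix.reindexAlgEquiv F F e.symm A)) {K : Matrix κ κ F} (hK : IsUnit K) :
    ∃ G : Matrix ι ι F, IsUnit G ∧ ∀ A, Aᵀ * K * A = K → (f A)ᵀ * G * f A = G := by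
  set r := Matrix.reindexAlgEquiv F F e.symm
  set q' : Matrix ι ι F := ((Q⁻¹ : GL ι F) : Matrix ι ι F)
  refine ⟨q'ᵀ * r K * q', (((Matrix.isUnit_transpose q').2 (Q⁻¹).isUnit).mul (hK.map r)).mul (Q⁻¹).isUnit,
    fun A hA => ?_⟩
  have hfA : f A = (Q : Matrix ι ι F) * r A * q' := by rw [hf]; rfl
  have ht : r Aᵀ = (r A)ᵀ := by simp [r]
  have h1 : q' * (Q : Matrix ι ι F) = 1 := by simp [q']
  have h2 : (Q : Matrix ι ι F)ᵀ * q'ᵀ = 1 := by rw [← Matrix.transpose_mul, h1, Matrix.transpose_one]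
  rw [hfA, Matrix.transpose_mul, Matrix.transpose_mul]
  calc q'ᵀ * ((r A)ᵀ * (Q : Matrix ι ι F)ᵀ) * (q'ᵀ * r K * q') * ((Q : Matrix ι ι F) * r A * q')
      = q'ᵀ * (r A)ᵀ * ((Q : Matrix ι ι F)ᵀ * q'ᵀ) * r K * (q' * (Q : Matrix ι ι F)) * r A * q' := by
        simp only [mul_assoc]
    _ = q'ᵀ * r (Aᵀ * K * A) * q' := by
        rw [h1, h2, map_mul, map_mul, ht]
        simp only [mul_assoc, one_mul, mul_one]
    _ = q'ᵀ * r K * q' := by rw [hA]

/-- The form fixed by three tensor factors of degree two. -/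
theorem triple_form (f : Matrix (Fin 2 × Fin 4) (Fin 2 × Fin 4) F →ₐ[F] Matrix ι ι F) (e : ι ≃ Fin 2 × Fin 4)
    (Q : GL ι F) (hf : ∀ A, f A = cjA Q (Matrix.reindexAlgEquiv F F e.symm A))
    (g : Matrix (Fin 2 × Fin 2) (Fin 2 × Fin 2) F →ₐ[F] Matrix (Fin 4) (Fin 4) F) (e' : Fin 4 ≃ Fin 2 × Fin 2)
    (Q' : GL (Fin 4) F) (hg : ∀ A, g A = cjA Q' (Matrix.reindexAlgEquiv F F e'.symm A)) :
    ∃ G : Matrix ι ι F, IsUnit G ∧
      (∀ a : Matrix (Fin 2) (Fin 2) F, a.det = 1 → (f (a ⊗ₖ 1))ᵀ * G * f (a ⊗ₖ 1) = G) ∧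
      (∀ a : Matrix (Fin 2) (Fin 2) F, a.det = 1 → (f (1 ⊗ₖ g (a ⊗ₖ 1)))ᵀ * G * f (1 ⊗ₖ g (a ⊗ₖ 1)) = G) ∧
      (∀ a : Matrix (Fin 2) (Fin 2) F, a.det = 1 → (f (1 ⊗ₖ g (1 ⊗ₖ a)))ᵀ * G * f (1 ⊗ₖ g (1 ⊗ₖ a)) = G) := by
  have kfix : ∀ {m n : ℕ} (a K : Matrix (Fin m) (Fin m) F) (b L : Matrix (Fin n) (Fin n) F),
      aᵀ * K * a = K → bᵀ * L * b = L → (a ⊗ₖ b)ᵀ * (K ⊗ₖ L) * (a ⊗ₖ b) = K ⊗ₖ L := fun a K b L h1 h2 => by
    rw [← Matrix.kroneckerMap_transpose, ← Matrix.mul_kronecker_mul, ← Matrix.mul_kronecker_mul, h1, h2]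
  have hJ := altTwo_isUnit (F := F)
  obtain ⟨L, hL, hLfix⟩ := transport g e' Q' hg (hJ.kronecker hJ)
  obtain ⟨G, hG, hGfix⟩ := transport f e Q hf (hJ.kronecker hL)
  exact ⟨G, hG,
    fun a ha => hGfix _ (kfix _ _ _ _ (altTwo_fixed ha) (by simp)),
    fun a ha => hGfix _ (kfix _ _ _ _ (by simp) (hLfix _ (kfix _ _ _ _ (altTwo_fixed ha) (by simp)))),
    fun a ha => hGfix _ (kfix _ _ _ _ (by simp) (hLfix _ (kfix _ _ _ _ (by simp) (altTwo_fixed ha))))⟩

section Finite

variable [Finite F] [Nonempty ι] {H : Subgroup (GL ι F)}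

set_option maxHeartbeats 1000000 in
/-- A minimal non-scalar normal subgroup which is absolutely irreducible and not abelian modulo scalars. -/
theorem core (hn : Fintype.card ι = 8) {P : Subgroup (GL ι F)} (hPH : P ≤ H)
    (hPn : ∀ g ∈ H, ∀ x ∈ P, g * x * g⁻¹ ∈ P) (hPsc : ¬ P ≤ scalars ι F)
    (hmin : ∀ M : Subgroup (GL ι F), M ≤ P → (∀ g ∈ H, ∀ x ∈ M, g * x * g⁻¹ ∈ M) → ¬ M ≤ scalars ι F → M = P)
    (habs : ActsAbsolutelyIrreducibly (matrixSet P))
    (hnab : ¬ ∀ x ∈ P, ∀ y ∈ P, x * y * x⁻¹ * y⁻¹ ∈ scalars ι F) :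
    KnownA.PrimeDim.Core H P ∨
      ∃ G : Matrix ι ι F, IsUnit G ∧ ∀ x ∈ P, (x : Matrix ι ι F)ᵀ * G * (x : Matrix ι ι F) = G := by
  classical
  set Sc := scalars ι F
  have htop : adj P = ⊤ := adj_top habs
  have conj_comm : ∀ (R : Subgroup (GL ι F)), (∀ g ∈ H, ∀ x ∈ R, g * x * g⁻¹ ∈ R) →
      ∀ g ∈ H, ∀ x ∈ ⁅R, R⁆, g * x * g⁻¹ ∈ ⁅R, R⁆ := by
    intro R hR g hg
    have : (⁅R, R⁆).map (MulAut.conj g).toMonoidHom ≤ ⁅R, R⁆ := by
      rw [Subgroup.map_commutator]
      refine Subgroup.commutator_mono ?_ ?_ <;> rintro _ ⟨x, hx, rfl⟩ <;> exact hR g hg x hx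
    exact fun x hx => this ⟨x, hx, rfl⟩
  have hperf : ⁅P, P⁆ = P := hmin _ (Subgroup.commutator_le.2 fun a ha b hb =>
    mul_mem (mul_mem (mul_mem ha hb) (inv_mem ha)) (inv_mem hb)) (conj_comm P hPn)
    fun hle => hnab fun x hx y hy => hle (Subgroup.commutator_mem_commutator hx hy)
  have hcomm : ∀ g : GL ι F, (∀ x ∈ P, g * x * g⁻¹ * x⁻¹ ∈ Sc) → g ∈ Sc := by
    intro g hg
    obtain ⟨c, hc⟩ := scalar_of_commute htop (M := (g : Matrix ι ι F)) fun x hx =>
      congrArg Units.val (commute_of_perfect hg (hperf.symm ▸ hx))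
    exact mem_scalars_of_val hc
  -- minimal normal subgroups of the socle above the scalars
  obtain ⟨R, hRmem, hRmin⟩ := Set.exists_min_image
    {N : Subgroup (GL ι F) | N ≤ P ∧ P ⊓ Sc ≤ N ∧ (∀ g ∈ P, ∀ x ∈ N, g * x * g⁻¹ ∈ N) ∧ ¬ N ≤ Sc} (fun N => Nat.card N)
    (Set.toFinite _) ⟨P, le_rfl, inf_le_left, fun g hg x hx => mul_mem (mul_mem hg hx) (inv_mem hg), hPsc⟩
  obtain ⟨hRP, hZR, hRn, hRsc⟩ := hRmem
  have hcjmem : ∀ (h : GL ι F) (x : GL ι F), x ∈ R.map (MulAut.conj h).toMonoidHom ↔ h⁻¹ * x * h ∈ R := by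
    intro h x
    constructor
    · rintro ⟨y, hy, rfl⟩
      have : h⁻¹ * (MulAut.conj h y) * h = y := by simp [mul_assoc]
      exact this.symm ▸ hy
    · intro hx; exact ⟨_, hx, by simp [mul_assoc]⟩
  have hother : ∀ h ∈ H, R.map (MulAut.conj h).toMonoidHom ≠ R → ∀ a ∈ R.map (MulAut.conj h).toMonoidHom, ∀ b ∈ R,
      a * b * a⁻¹ * b⁻¹ ∈ Sc := by
    intro h hh hne a ha b hb
    set R' := R.map (MulAut.conj h).toMonoidHom with hR'
    have hR'P : R' ≤ P := by rintro _ ⟨y, hy, rfl⟩; exact hPn h hh y (hRP hy)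
    have hR'n : ∀ g ∈ P, ∀ x ∈ R', g * x * g⁻¹ ∈ R' := by
      intro g hg x hx
      rw [hR', hcjmem] at hx ⊢
      have := hRn _ (by simpa using hPn h⁻¹ (inv_mem hh) g hg) _ hx
      simpa [mul_assoc] using this
    have hint : R' ⊓ R ≤ Sc := by
      by_contra hnot
      have h1 : R' ⊓ R = R := Subgroup.eq_of_le_of_card_ge inf_le_right (hRmin _ ⟨inf_le_right.trans hRP,
        le_inf (fun x hx => by
          rw [hR', hcjmem]
          refine hZR ⟨by simpa using hPn h⁻¹ (inv_mem hh) x hx.1, ?_⟩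
          simpa using scalars_normal.conj_mem x hx.2 h⁻¹) hZR,
        fun g hg x hx => ⟨hR'n g hg x hx.1, hRn g hg x hx.2⟩, hnot⟩)
      refine hne (Subgroup.eq_of_le_of_card_ge (inf_eq_right.1 h1) ?_).symm
      exact (Subgroup.card_map_of_injective (MulAut.conj h).injective).le
    refine hint (Subgroup.mem_inf.2 ⟨?_, ?_⟩)
    · rw [show a * b * a⁻¹ * b⁻¹ = a * (b * a⁻¹ * b⁻¹) by group]
      exact mul_mem ha (hR'n b (hRP hb) _ (inv_mem ha))
    · exact mul_mem (hRn a (hR'P ha) b hb) (inv_mem hb)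
  have hRnab : ¬ ∀ a ∈ R, ∀ b ∈ R, a * b * a⁻¹ * b⁻¹ ∈ Sc := by
    intro hab
    -- all conjugates commute modulo scalars
    have hall : ∀ h ∈ H, ∀ k ∈ H, ∀ a ∈ R, ∀ b ∈ R,
        h * a * h⁻¹ * (k * b * k⁻¹) * (h * a * h⁻¹)⁻¹ * (k * b * k⁻¹)⁻¹ ∈ Sc := by
      intro h hh k hk a ha b hb
      have key : k⁻¹ * h * a * (k⁻¹ * h)⁻¹ * b * (k⁻¹ * h * a * (k⁻¹ * h)⁻¹)⁻¹ * b⁻¹ ∈ Sc := by
        by_cases he : R.map (MulAut.conj (k⁻¹ * h)).toMonoidHom = R
        · exact hab _ (he ▸ ⟨a, ha, rfl⟩) b hb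
        · exact hother _ (mul_mem (inv_mem hk) hh) he _ ⟨a, ha, rfl⟩ b hb
      have := scalars_normal.conj_mem _ key k
      convert this using 1
      group
    let S : Set (GL ι F) := {x | ∃ h ∈ H, ∃ a ∈ R, x = h * a * h⁻¹}
    have hgen : Subgroup.closure S = P := by
      refine hmin _ ((Subgroup.closure_le _).2 ?_) (fun g hg x hx => ?_) fun hle => hRsc fun a ha => hle
        (Subgroup.subset_closure ⟨1, one_mem _, a, ha, by simp⟩)
      · rintro _ ⟨h, hh, a, ha, rfl⟩; exact hPn h hh a (hRP ha)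
      · have : (Subgroup.closure S).map (MulAut.conj g).toMonoidHom ≤ Subgroup.closure S := by
          rw [MonoidHom.map_closure, Subgroup.closure_le]
          rintro _ ⟨_, ⟨h, hh, a, ha, rfl⟩, rfl⟩
          exact Subgroup.subset_closure ⟨g * h, mul_mem hg hh, a, ha, by simp [mul_assoc]⟩
        exact this ⟨x, hx, rfl⟩
    apply hPsc
    intro x hx
    have hq : ∀ u ∈ S, ∀ v ∈ S, Commute (QuotientGroup.mk' Sc u) (QuotientGroup.mk' Sc v) := by
      rintro _ ⟨h, hh, a, ha, rfl⟩ _ ⟨k, hk, b, hb, rfl⟩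
      rw [Commute, SemiconjBy, ← commutatorElement_eq_one_iff_mul_comm, ← map_commutatorElement]
      exact (QuotientGroup.eq_one_iff _).2 (hall h hh k hk a ha b hb)
    rw [← hperf] at hx
    refine (Subgroup.commutator_le.2 fun u hu v hv => ?_ : ⁅P, P⁆ ≤ Sc) hx
    rw [← QuotientGroup.eq_one_iff, ← QuotientGroup.mk'_apply, map_commutatorElement, commutatorElement_eq_one_iff_mul_comm]
    rw [← hgen] at hu hv
    induction hu, hv using Subgroup.closure_induction₂ with
    | mem u v hu hv => exact hq u hu v hv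
    | one_left v _ => simp
    | one_right u _ => simp
    | mul_left u u' v _ _ _ h1 h2 => rw [map_mul]; exact (Commute.mul_left h1 h2).eq
    | mul_right u v v' _ _ _ h1 h2 => rw [map_mul]; exact (Commute.mul_right h1 h2).eq
    | inv_left u v _ _ h1 => rw [map_inv]; exact (Commute.inv_left h1).eq
    | inv_right u v _ _ h1 => rw [map_inv]; exact (Commute.inv_right h1).eq
  set S := ⁅R, R⁆ with hS
  have hSP : S ≤ P := (Subgroup.commutator_mono hRP hRP).trans hperf.le
  have hSsc : ¬ S ≤ Sc := fun hle => hRnab fun a ha b hb => hle (Subgroup.commutator_mem_commutator ha hb)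
  have hSn : ∀ g ∈ P, ∀ x ∈ S, g * x * g⁻¹ ∈ S := by
    intro g hg
    have : S.map (MulAut.conj g).toMonoidHom ≤ S := by
      rw [hS, Subgroup.map_commutator]
      refine Subgroup.commutator_mono ?_ ?_ <;> rintro _ ⟨x, hx, rfl⟩ <;> exact hRn g hg x hx
    exact fun x hx => this ⟨x, hx, rfl⟩
  by_cases hfix : ∀ h ∈ H, R.map (MulAut.conj h).toMonoidHom = R
  swap
  · right
    push Not at hfix
    obtain ⟨h, hh, hne⟩ := hfix
    -- the other conjugate centralises
    have hcen : ∀ h ∈ H, R.map (MulAut.conj h).toMonoidHom ≠ R → ∀ s ∈ S,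
        ∀ a ∈ R.map (MulAut.conj h).toMonoidHom, a * s = s * a :=
      fun h hh hne s hs a ha => commute_of_perfect (fun r hr => hother h hh hne a ha r hr) hs
    let gen : Set (GL ι F) := {x | ∃ k ∈ H, ∃ s ∈ S, x = k * s * k⁻¹}
    have hgen : Subgroup.closure gen = P := by
      refine hmin _ ((Subgroup.closure_le _).2 ?_) (fun g hg x hx => ?_) fun hle => hSsc fun s hs => hle
        (Subgroup.subset_closure ⟨1, one_mem _, s, hs, by simp⟩)
      · rintro _ ⟨k, hk, a, ha, rfl⟩; exact hPn k hk a (hSP ha)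
      · have : (Subgroup.closure gen).map (MulAut.conj g).toMonoidHom ≤ Subgroup.closure gen := by
          rw [MonoidHom.map_closure, Subgroup.closure_le]
          rintro _ ⟨_, ⟨k, hk, a, ha, rfl⟩, rfl⟩
          exact Subgroup.subset_closure ⟨g * k, mul_mem hg hk, a, ha, by simp [mul_assoc]⟩
        exact this ⟨x, hx, rfl⟩
    have hSR : S ≤ R := Subgroup.commutator_le.2 fun a ha b hb =>
      mul_mem (mul_mem (mul_mem ha hb) (inv_mem ha)) (inv_mem hb)
    have hA := inv_adj hSn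
    obtain ⟨d, φ, hd, hrange, hφ⟩ := matrix_form (absIrred_of_top htop).1 hA fun z hz hzc => by
      refine scalar_of_commute htop fun x hx => ?_
      rw [← hgen] at hx
      let C : Subgroup (GL ι F) :=
        { carrier := {x | z * (x : Matrix ι ι F) = (x : Matrix ι ι F) * z}
          one_mem' := by simp
          mul_mem' := fun {a b} ha hb => by
            simp only [Set.mem_ofPred_eq, Units.val_mul] at *
            rw [← mul_assoc, ha, mul_assoc, hb, mul_assoc]
          inv_mem' := fun {a} ha => by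
            simp only [Set.mem_ofPred_eq] at *
            rw [Units.eq_inv_mul_iff_mul_eq, ← mul_assoc, ← ha, Units.mul_inv_cancel_right] }
      refine (Subgroup.closure_le C).2 ?_ hx
      rintro _ ⟨k, hk, s, hs, rfl⟩
      by_cases he : R.map (MulAut.conj k).toMonoidHom = R
      · have he' : S.map (MulAut.conj k).toMonoidHom = S := by rw [hS, Subgroup.map_commutator, he]
        exact hzc _ (mem_adj (he' ▸ ⟨s, hs, rfl⟩ : k * s * k⁻¹ ∈ S))
      · refine (commute_adj (N := S) (fun t ht => ?_) z hz).symm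
        exact congrArg Units.val (hcen k hk he t ht _ ⟨s, hSR hs, rfl⟩)
    obtain ⟨w, e, Q, hdw, hQ⟩ := units_form hd φ
    have hd2 : 2 ≤ d := by
      by_contra hlt
      refine hSsc fun x hx => ?_
      have hx' : (x : Matrix ι ι F) ∈ φ.range := hrange ▸ mem_adj hx
      obtain ⟨a, ha⟩ := hx'
      have : a = a ⟨0, hd⟩ ⟨0, hd⟩ • 1 := by
        ext i j; obtain rfl : i = ⟨0, hd⟩ := Fin.ext (by omega); obtain rfl : j = ⟨0, hd⟩ := Fin.ext (by omega); simp
      refine mem_scalars_of_val (c := a ⟨0, hd⟩ ⟨0, hd⟩) ?_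
      rw [← ha]; change φ a = _
      conv_lhs => rw [this]
      rw [map_smul, map_one]
    -- the conjugate algebra lies in the commutant
    let Rr : Matrix (Fin d × Fin w) (Fin d × Fin w) F ≃ₐ[F] Matrix ι ι F :=
      (Matrix.reindexAlgEquiv F F e.symm).trans (cjA Q)
    have hQ' : ∀ a, φ a = Rr (a ⊗ₖ 1) := fun a => by rw [hQ]; rfl
    have hw : 0 < w := Nat.pos_of_ne_zero fun h => by subst h; rw [mul_zero] at hdw; exact Fintype.card_ne_zero hdw.symm
    have hrS : ∀ a : Matrix (Fin d) (Fin d) F, Rr.symm (cjA h (φ a)) ∈ (kronHom d w).range := by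
      intro a
      obtain ⟨B, hB⟩ := kron_commutant hd (Rr.symm (cjA h (φ a))) fun i j => by
        apply Rr.injective
        rw [map_mul, map_mul, AlgEquiv.apply_symm_apply, ← hQ']
        refine commute_adj (N := S) (M := cjA h (φ a)) (fun x hx => ?_) _ (hrange ▸ ⟨Matrix.single i j 1, rfl⟩)
        have ha : φ a ∈ adj S := hrange ▸ ⟨a, rfl⟩
        have h1 := commute_adj (N := S) (M := ((h⁻¹ * x * h : GL ι F) : Matrix ι ι F)) (fun y hy => by
          have := congrArg (fun u => h⁻¹ * u * h) (hcen h hh hne x hx _ ⟨y, hSR hy, rfl⟩).symm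
          simpa [mul_assoc] using congrArg Units.val this) _ ha
        have h2 := congrArg (cjA h) h1
        rw [map_mul, map_mul, show cjA h ((h⁻¹ * x * h : GL ι F) : Matrix ι ι F) = x by simp [mul_assoc]] at h2
        exact h2.symm
      exact ⟨B, hB.symm⟩
    have hdvd : d ∣ w := dvd_of_kron_range hd (Rr.symm.toAlgHom.comp ((cjA h).toAlgHom.comp φ)) hrS
    obtain ⟨r, hr⟩ := hdvd
    have hd12 : d = 2 ∧ w = 4 := by
      rw [hn, hr] at hdw
      have hdd : d * d * r = 8 := by rw [mul_assoc]; exact hdw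
      have hd3 : d ≤ 2 := by
        by_contra hlt
        have h0 : 0 < r := Nat.pos_of_ne_zero fun h0 => by rw [h0] at hdw; simp at hdw
        have := Nat.mul_le_mul (Nat.mul_le_mul (by omega : 3 ≤ d) (by omega : 3 ≤ d)) h0
        rw [hdd] at this
        omega
      obtain rfl : d = 2 := by omega
      omega
    obtain ⟨rfl, rfl⟩ := hd12
    let ψ : GL ι F → (Matrix (Fin 2) (Fin 2) F →ₐ[F] Matrix ι ι F) := fun k => (cjA k).toAlgHom.comp φ
    have hmem : ∀ a, φ a ∈ adj S := fun a => hrange ▸ ⟨a, rfl⟩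
    have hψc : ∀ k ∈ H, R.map (MulAut.conj k).toMonoidHom ≠ R → ∀ a b, ψ k a * φ b = φ b * ψ k a :=
      fun k hk hne' a b => commute_conj (fun x hx y hy => hcen k hk hne' x hx _ ⟨y, hSR hy, rfl⟩) (hmem a) (hmem b)
    have hψψ : ∀ k ∈ H, ∀ k' ∈ H, R.map (MulAut.conj k).toMonoidHom ≠ R.map (MulAut.conj k').toMonoidHom →
        ∀ a b, ψ k' a * ψ k b = ψ k b * ψ k' a := by
      intro k hk k' hk' hne' a b
      have hne2 : R.map (MulAut.conj (k⁻¹ * k')).toMonoidHom ≠ R := by
        intro heq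
        refine hne' ?_
        conv_lhs => rw [← heq, Subgroup.map_map]
        congr 1
        ext x
        simp [mul_assoc]
      have h3 := congrArg (cjA k) (hψc _ (mul_mem (inv_mem hk) hk') hne2 a b)
      rw [map_mul, map_mul, show cjA k (ψ (k⁻¹ * k') a) = ψ k' a by simp [ψ, mul_assoc]] at h3
      exact h3
    obtain ⟨χ, hχ⟩ := factor (by norm_num) Rr (ψ h) fun a b => by rw [← hQ']; exact hψc h hh hne a b
    obtain ⟨v, e', Q', hv, hQe⟩ := units_form (by norm_num : 0 < 2) χ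
    rw [Fintype.card_fin] at hv
    obtain rfl : v = 2 := by omega
    let R' : Matrix (Fin 2 × Fin 2) (Fin 2 × Fin 2) F ≃ₐ[F] Matrix (Fin 4) (Fin 4) F :=
      (Matrix.reindexAlgEquiv F F e'.symm).trans (cjA Q')
    have hR' : ∀ a, χ a = R' (a ⊗ₖ 1) := fun a => by rw [hQe]; rfl
    -- all further conjugates live in the third factor
    have hthird : ∀ k ∈ H, R.map (MulAut.conj k).toMonoidHom ≠ R →
        R.map (MulAut.conj k).toMonoidHom ≠ R.map (MulAut.conj h).toMonoidHom →
        ∃ θ : Matrix (Fin 2) (Fin 2) F →ₐ[F] Matrix (Fin 2) (Fin 2) F, ∀ a, ψ k a = Rr (1 ⊗ₖ R' (1 ⊗ₖ θ a)) := by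
      intro k hk hk1 hk2
      obtain ⟨η, hη⟩ := factor (by norm_num) Rr (ψ k) fun a b => by rw [← hQ']; exact hψc k hk hk1 a b
      obtain ⟨θ, hθ⟩ := factor (by norm_num) R' η fun a b => by
        rw [← hR']
        apply kronHom_injective (F := F) (by norm_num : 0 < 2) 4
        apply Rr.injective
        have h2 := hψψ h hh k hk hk2.symm a b
        rw [hη, hχ, ← map_mul, ← map_mul] at h2
        rw [map_mul (kronHom 2 4), map_mul (kronHom 2 4)]
        exact h2
      exact ⟨θ, fun a => by rw [hη, hθ]⟩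
    obtain ⟨k₀, hk₀, hk1, hk2⟩ : ∃ k₀ ∈ H, R.map (MulAut.conj k₀).toMonoidHom ≠ R ∧
        R.map (MulAut.conj k₀).toMonoidHom ≠ R.map (MulAut.conj h).toMonoidHom := by
      by_contra hcon
      push Not at hcon
      let M : Matrix ι ι F := Rr (1 ⊗ₖ R' (1 ⊗ₖ Matrix.single (0 : Fin 2) (0 : Fin 2) (1 : F)))
      obtain ⟨c, hc⟩ := scalar_of_commute htop (M := M) fun x hx => by
        rw [← hgen] at hx
        induction hx using Subgroup.closure_induction with
        | mem y hy =>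
          obtain ⟨k, hk, s, hs, rfl⟩ := hy
          by_cases he : R.map (MulAut.conj k).toMonoidHom = R
          · have he' : S.map (MulAut.conj k).toMonoidHom = S := by rw [hS, Subgroup.map_commutator, he]
            obtain ⟨a, ha⟩ : ((k * s * k⁻¹ : GL ι F) : Matrix ι ι F) ∈ φ.range :=
              hrange ▸ mem_adj (he' ▸ ⟨s, hs, rfl⟩ : k * s * k⁻¹ ∈ S)
            rw [← ha]
            show M * φ a = φ a * M
            simp only [M, hQ', ← map_mul, ← mul_kronecker_mul, one_mul, mul_one]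
          · have he' : S.map (MulAut.conj k).toMonoidHom = S.map (MulAut.conj h).toMonoidHom := by
              rw [hS, Subgroup.map_commutator, Subgroup.map_commutator, hcon k hk he]
            obtain ⟨t, ht, hts⟩ : k * s * k⁻¹ ∈ S.map (MulAut.conj h).toMonoidHom := he' ▸ ⟨s, hs, rfl⟩
            obtain ⟨a, ha⟩ : (t : Matrix ι ι F) ∈ φ.range := hrange ▸ mem_adj ht
            have hval : ((k * s * k⁻¹ : GL ι F) : Matrix ι ι F) = ψ h a := by
              rw [← hts]
              show _ = cjA h (φ.toRingHom a)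
              rw [ha]
              simp [mul_assoc]
            rw [hval]
            simp only [M, hχ, hR', ← map_mul, ← mul_kronecker_mul, one_mul, mul_one]
        | one => simp
        | mul a b _ _ iha ihb => rw [Units.val_mul, ← mul_assoc, iha, mul_assoc, ihb, mul_assoc]
        | inv a _ iha => exact ((show Commute M (a : Matrix ι ι F) from iha).units_inv_right).eq
      have h2 : (1 : Matrix (Fin 2) (Fin 2) F) ⊗ₖ R' (1 ⊗ₖ Matrix.single (0 : Fin 2) (0 : Fin 2) (1 : F)) = c • 1 :=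
        Rr.injective (by rw [map_smul, map_one]; exact hc)
      have h2' : R' (1 ⊗ₖ Matrix.single (0 : Fin 2) (0 : Fin 2) (1 : F)) = c • 1 :=
        kronHom_injective (F := F) (by norm_num : 0 < 2) 4 (h2.trans (by rw [map_smul, map_one]))
      have h3 : (1 : Matrix (Fin 2) (Fin 2) F) ⊗ₖ (Matrix.single (0 : Fin 2) (0 : Fin 2) (1 : F)) = c • 1 :=
        R'.injective (by rw [map_smul, map_one]; exact h2')
      have h4 := congrFun (congrFun h3 (0, 0)) (0, 0)
      have h5 := congrFun (congrFun h3 (0, 1)) (0, 1)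
      simp [Matrix.kroneckerMap_apply] at h4 h5
      exact one_ne_zero (h4.trans h5.symm)
    obtain ⟨θ, hθ⟩ := hthird k₀ hk₀ hk1 hk2
    have hθsurj : Function.Surjective θ := by
      have hinj : Function.Injective θ.toLinearMap := θ.toRingHom.injective
      exact LinearMap.injective_iff_surjective.1 hinj
    have hall : ∀ k ∈ H, R.map (MulAut.conj k).toMonoidHom = R ∨
        R.map (MulAut.conj k).toMonoidHom = R.map (MulAut.conj h).toMonoidHom ∨
        R.map (MulAut.conj k).toMonoidHom = R.map (MulAut.conj k₀).toMonoidHom := by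
      intro k hk
      by_contra hcon
      push Not at hcon
      obtain ⟨η, hη⟩ := hthird k hk hcon.1 hcon.2.1
      have hcom : ∀ a b, η a * b = b * η a := by
        intro a b
        obtain ⟨b', rfl⟩ := hθsurj b
        have h2 := hψψ k₀ hk₀ k hk hcon.2.2.symm a b'
        simp only [hη, hθ, ← map_mul, ← mul_kronecker_mul, one_mul, mul_one] at h2
        have h3 := kronHom_injective (F := F) (by norm_num : 0 < 2) 4 (Rr.injective h2)
        exact kronHom_injective (F := F) (by norm_num : 0 < 2) 2 (R'.injective h3)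
      have h2 : (Matrix.single (0 : Fin 2) (1 : Fin 2) (1 : F)) * Matrix.single 1 0 1 =
          Matrix.single 1 0 1 * Matrix.single 0 1 1 :=
        η.toRingHom.injective (by show η _ = η _; rw [map_mul, map_mul]; exact hcom _ _)
      have h3 := congrFun (congrFun h2 0) 0
      simp at h3
    -- the derived group acts with determinant one in each factor
    set S' := ⁅S, S⁆ with hS'
    have hdet : ∀ s ∈ S', ∃ a, φ a = (s : Matrix ι ι F) ∧
        ∀ η : Matrix (Fin 2) (Fin 2) F →ₐ[F] Matrix (Fin 2) (Fin 2) F, (η a).det = 1 := by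
      have hel : ∀ x ∈ S, ∃ a, φ a = (x : Matrix ι ι F) := fun x hx =>
        (hrange ▸ mem_adj hx : (x : Matrix ι ι F) ∈ φ.range)
      have hinv : ∀ (x : GL ι F) a a', φ a = (x : Matrix ι ι F) → φ a' = ((x⁻¹ : GL ι F) : Matrix ι ι F) →
          a * a' = 1 := fun x a a' ha ha' => hφ (by rw [map_mul, ha, ha', map_one, Units.mul_inv])
      intro s hs
      rw [hS', Subgroup.commutator_def] at hs
      induction hs using Subgroup.closure_induction'' with
      | mem y hy =>
        obtain ⟨u, hu, w, hw, rfl⟩ := hy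
        obtain ⟨a, ha⟩ := hel u hu
        obtain ⟨b, hb⟩ := hel w hw
        obtain ⟨a', ha'⟩ := hel _ (inv_mem hu)
        obtain ⟨b', hb'⟩ := hel _ (inv_mem hw)
        refine ⟨a * b * a' * b', ?_, fun η => ?_⟩
        · simp [commutatorElement_def, map_mul, ha, hb, ha', hb']
        · have e1 := congrArg (fun z => (η z).det) (hinv u a a' ha ha')
          have e2 := congrArg (fun z => (η z).det) (hinv w b b' hb hb')
          simp only [map_mul, map_one, Matrix.det_mul, Matrix.det_one] at e1 e2 ⊢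
          linear_combination (η b).det * (η b').det * e1 + e2
      | inv_mem y hy =>
        obtain ⟨u, hu, w, hw, rfl⟩ := hy
        obtain ⟨a, ha⟩ := hel u hu
        obtain ⟨b, hb⟩ := hel w hw
        obtain ⟨a', ha'⟩ := hel _ (inv_mem hu)
        obtain ⟨b', hb'⟩ := hel _ (inv_mem hw)
        refine ⟨b * a * b' * a', ?_, fun η => ?_⟩
        · simp [commutatorElement_def, map_mul, ha, hb, ha', hb', mul_assoc]
        · have e1 := congrArg (fun z => (η z).det) (hinv u a a' ha ha')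
          have e2 := congrArg (fun z => (η z).det) (hinv w b b' hb hb')
          simp only [map_mul, map_one, Matrix.det_mul, Matrix.det_one] at e1 e2 ⊢
          linear_combination (η b).det * (η b').det * e1 + e2
      | one => exact ⟨1, by simp, fun η => by simp⟩
      | mul u w _ _ hu hw =>
        obtain ⟨a, ha, ha1⟩ := hu
        obtain ⟨b, hb, hb1⟩ := hw
        exact ⟨a * b, by rw [map_mul, ha, hb, Units.val_mul],
          fun η => by rw [map_mul, Matrix.det_mul, ha1, hb1, one_mul]⟩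
    obtain ⟨G, hG, hG1, hG2, hG3⟩ := triple_form Rr.toAlgHom e Q (fun _ => rfl) R'.toAlgHom e' Q' (fun _ => rfl)
    refine ⟨G, hG, ?_⟩
    let X : Subgroup (GL ι F) :=
      { carrier := {x | (x : Matrix ι ι F)ᵀ * G * (x : Matrix ι ι F) = G}
        one_mem' := by simp
        mul_mem' := fun {a b} ha hb => by
          simp only [Set.mem_ofPred_eq, Units.val_mul, Matrix.transpose_mul] at *
          calc _ = (b : Matrix ι ι F)ᵀ * ((a : Matrix ι ι F)ᵀ * G * (a : Matrix ι ι F)) * (b : Matrix ι ι F) := by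
                simp only [mul_assoc]
            _ = G := by rw [ha, hb]
        inv_mem' := fun {a} ha => by
          simp only [Set.mem_ofPred_eq] at *
          conv_lhs => rw [← ha]
          simp only [mul_assoc, Units.mul_inv, mul_one]
          rw [← mul_assoc, ← Matrix.transpose_mul, Units.mul_inv, Matrix.transpose_one, one_mul] }
    have hgen' : Subgroup.closure {x | ∃ k ∈ H, ∃ s ∈ S', x = k * s * k⁻¹} = P := by
      refine hmin _ ((Subgroup.closure_le _).2 ?_) (fun g hg x hx => ?_) fun hle => ?_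
      · rintro _ ⟨k, hk, a, ha, rfl⟩
        exact hPn k hk a (hSP ((Subgroup.commutator_le.2 fun u hu w hw =>
          mul_mem (mul_mem (mul_mem hu hw) (inv_mem hu)) (inv_mem hw)) ha))
      · have : (Subgroup.closure {x | ∃ k ∈ H, ∃ s ∈ S', x = k * s * k⁻¹}).map (MulAut.conj g).toMonoidHom ≤
            Subgroup.closure {x | ∃ k ∈ H, ∃ s ∈ S', x = k * s * k⁻¹} := by
          rw [MonoidHom.map_closure, Subgroup.closure_le]
          rintro _ ⟨_, ⟨k, hk, a, ha, rfl⟩, rfl⟩
          exact Subgroup.subset_closure ⟨g * k, mul_mem hg hk, a, ha, by simp [mul_assoc]⟩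
        exact this ⟨x, hx, rfl⟩
      · -- otherwise `R` would be abelian modulo scalars
        have hS'sc : S' ≤ Sc := fun s hs => hle (Subgroup.subset_closure ⟨1, one_mem _, s, hs, by simp⟩)
        let N' : Subgroup (GL ι F) := S ⊔ (P ⊓ Sc)
        have hN'n : ∀ g ∈ P, ∀ x ∈ N', g * x * g⁻¹ ∈ N' := by
          intro g hg
          have : N'.map (MulAut.conj g).toMonoidHom ≤ N' := by
            rw [Subgroup.map_sup]
            refine sup_le_sup ?_ ?_
            · rintro _ ⟨x, hx, rfl⟩; exact hSn g hg x hx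
            · rintro _ ⟨x, hx, rfl⟩
              exact Subgroup.mem_inf.2 ⟨P.mul_mem (P.mul_mem hg hx.1) (P.inv_mem hg), scalars_normal.conj_mem x hx.2 g⟩
          exact fun x hx => this ⟨x, hx, rfl⟩
        have hN' : N' = R := Subgroup.eq_of_le_of_card_ge (sup_le hSR hZR)
          (hRmin _ ⟨sup_le hSP inf_le_left, le_sup_right, hN'n, fun h0 => hSsc (le_sup_left.trans h0)⟩)
        haveI : Sc.Normal := scalars_normal
        refine hRnab fun a ha b hb => ?_
        have hmap : R.map (QuotientGroup.mk' Sc) = S.map (QuotientGroup.mk' Sc) := by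
          rw [← hN', Subgroup.map_sup]
          refine sup_eq_left.2 ?_
          rintro _ ⟨x, hx, rfl⟩
          rw [QuotientGroup.mk'_apply, (QuotientGroup.eq_one_iff x).2 hx.2]
          exact one_mem _
        obtain ⟨a', ha', hea⟩ := hmap ▸ Subgroup.mem_map_of_mem (QuotientGroup.mk' Sc) ha
        obtain ⟨b', hb', heb⟩ := hmap ▸ Subgroup.mem_map_of_mem (QuotientGroup.mk' Sc) hb
        rw [← QuotientGroup.eq_one_iff (N := Sc), ← QuotientGroup.mk'_apply, map_mul, map_mul, map_mul, map_inv,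
          map_inv, ← hea, ← heb, ← map_inv, ← map_inv, ← map_mul, ← map_mul, ← map_mul, QuotientGroup.mk'_apply,
          QuotientGroup.eq_one_iff]
        exact hS'sc (Subgroup.commutator_mem_commutator ha' hb')
    intro x hx
    rw [← hgen'] at hx
    refine (Subgroup.closure_le X).2 ?_ hx
    rintro _ ⟨k, hk, s, hs, rfl⟩
    have mapped : ∀ k' : GL ι F, R.map (MulAut.conj k).toMonoidHom = R.map (MulAut.conj k').toMonoidHom →
        ∃ a, ((k * s * k⁻¹ : GL ι F) : Matrix ι ι F) = ψ k' a ∧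
          ∀ η : Matrix (Fin 2) (Fin 2) F →ₐ[F] Matrix (Fin 2) (Fin 2) F, (η a).det = 1 := by
      intro k' he
      have he' : S'.map (MulAut.conj k).toMonoidHom = S'.map (MulAut.conj k').toMonoidHom := by
        simp only [hS', hS, Subgroup.map_commutator, he]
      obtain ⟨t, ht, hts⟩ : k * s * k⁻¹ ∈ S'.map (MulAut.conj k').toMonoidHom := he' ▸ ⟨s, hs, rfl⟩
      obtain ⟨a, ha, ha1⟩ := hdet t ht
      refine ⟨a, ?_, ha1⟩
      rw [← hts]
      show _ = cjA k' (φ.toRingHom a)
      rw [show φ.toRingHom a = φ a from rfl, ha]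
      simp [mul_assoc]
    show (_ : Matrix ι ι F)ᵀ * G * _ = G
    rcases hall k hk with he | he | he
    · obtain ⟨a, ha, ha1⟩ := mapped 1 (by rw [he]; ext y; simp)
      rw [ha, show ψ 1 a = φ a by simp [ψ], hQ']
      exact hG1 a (ha1 (AlgHom.id F _))
    · obtain ⟨a, ha, ha1⟩ := mapped h he
      rw [ha, hχ, hR']
      exact hG2 a (ha1 (AlgHom.id F _))
    · obtain ⟨a, ha, ha1⟩ := mapped k₀ he
      rw [ha, hθ]
      exact hG3 (θ a) (ha1 θ)
  left
  have hRP' : R = P := hmin R hRP (fun g hg x hx => (hfix g hg) ▸ ⟨x, hx, rfl⟩) hRsc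
  subst hRP'
  refine ⟨hPH, hPn, hperf, ?_, ?_, fun h _ hh => hcomm h hh, habs⟩
  · have hnt : Nontrivial (R ⧸ Sc.subgroupOf R) := by
      refine QuotientGroup.nontrivial_iff.2 fun hc => hRsc ?_
      exact Subgroup.subgroupOf_eq_top.1 hc
    refine IsSimpleGroup.mk fun U hU => ?_
    set V : Subgroup (GL ι F) := (U.comap (QuotientGroup.mk' (Sc.subgroupOf R))).map R.subtype with hV
    have hUn : (U.comap (QuotientGroup.mk' (Sc.subgroupOf R))).Normal := hU.comap _
    have hVn : ∀ g ∈ R, ∀ x ∈ V, g * x * g⁻¹ ∈ V := by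
      intro g hg x hx
      obtain ⟨y, hy, rfl⟩ := Subgroup.mem_map.1 hx
      refine Subgroup.mem_map.2 ⟨(⟨g, hg⟩ : R) * y * (⟨g, hg⟩ : R)⁻¹, hUn.conj_mem y hy (⟨g, hg⟩ : R), ?_⟩
      simp only [map_mul, map_inv, Subgroup.coe_subtype]
    by_cases hVs : V ≤ Sc
    · left
      rw [eq_bot_iff]
      intro u hu
      obtain ⟨x, rfl⟩ := QuotientGroup.mk'_surjective _ u
      exact (QuotientGroup.eq_one_iff _).2 (Subgroup.mem_subgroupOf.2 (hVs ⟨x, hu, rfl⟩))
    · right
      have hVR : V = R := Subgroup.eq_of_le_of_card_ge (Subgroup.map_subtype_le _) (hRmin V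
        ⟨Subgroup.map_subtype_le _, fun x hx => ⟨⟨x, hx.1⟩, by
          show QuotientGroup.mk' _ _ ∈ U
          rw [QuotientGroup.mk'_apply, (QuotientGroup.eq_one_iff _).2 (Subgroup.mem_subgroupOf.2 hx.2)]
          exact U.one_mem, rfl⟩, hVn, hVs⟩)
      rw [eq_top_iff]
      intro u _
      obtain ⟨x, rfl⟩ := QuotientGroup.mk'_surjective _ u
      obtain ⟨y, hy, hyx⟩ := (hVR.symm ▸ x.2 : (x : GL ι F) ∈ V)
      rwa [show y = x from Subtype.ext hyx] at hy
  · intro hc
    refine hRnab fun a ha b hb => ?_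
    have := hc.is_comm.comm (QuotientGroup.mk' (Sc.subgroupOf R) ⟨a, ha⟩) (QuotientGroup.mk' _ ⟨b, hb⟩)
    rw [← commutatorElement_eq_one_iff_mul_comm, ← map_commutatorElement, QuotientGroup.mk'_apply,
      QuotientGroup.eq_one_iff] at this
    exact Subgroup.mem_subgroupOf.1 this

end Finite

end Cfsg.Agent.Lib.UnitEight
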