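import Cfsg.Agent.Lib.UnitPrimeDim.Proper
import Mathlib.LinearAlgebra.Matrix.Basis

/-!
Groups of matrices in which any two members commute up to sign and each squares to a sign:
realisability over a subfield with a square root of `-1`, and `SU_8(q)` does not normalise them.
-/

set_option autoImplicit false

namespace Cfsg.Agent.Lib.UnitEight

open Cfsg.Geo
open scoped Matrix
open Cfsg.Agent.Lib.Classical (hermBilin exists_isotropic exists_partner)
open Cfsg.Agent.Lib.UnitPrimeDim (toGU toGU_mem toGU_mulVec exists_tv exists_skew_ne omegaU)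

section

variable {ι : Type} {F : Type*} [Fintype ι] [DecidableEq ι] [Field F]

private theorem sign_of_comm {R : Subgroup (GL ι F)}
    (hcomm : ∀ x ∈ R, ∀ y ∈ R, y * x = x * y ∨ y * x = -(x * y)) {a x : GL ι F} (ha : a ∈ R) (hx : x ∈ R) :
    ∃ e : F, e * e = 1 ∧ (a : Matrix ι ι F) * (x : Matrix ι ι F) = e • ((x : Matrix ι ι F) * (a : Matrix ι ι F)) := by
  rcases hcomm x hx a ha with h | h
  · exact ⟨1, one_mul 1, by rw [one_smul, ← Units.val_mul, ← Units.val_mul, h]⟩
  · exact ⟨-1, by ring, by rw [neg_one_smul, ← Units.val_mul, ← Units.val_mul, h, Units.val_neg]⟩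

private theorem exists_common {R : Subgroup (GL ι F)} [Nonempty ι]
    (hsq : ∀ x ∈ R, x * x = 1 ∨ x * x = -1) {i : F} (hi : i ^ 2 = -1) (s : Finset (GL ι F))
    (hs : ∀ a ∈ s, a ∈ R) (hc : ∀ a ∈ s, ∀ b ∈ s, a * b = b * a) :
    ∃ v : ι → F, v ≠ 0 ∧ ∀ a ∈ s, ∃ c : F, (c = 1 ∨ c = -1 ∨ c = i ∨ c = -i) ∧
      (a : Matrix ι ι F) *ᵥ v = c • v := by
  classical
  induction s using Finset.induction with
  | empty =>
    exact ⟨fun _ => 1, fun h => one_ne_zero (α := F) (congrFun h (Classical.arbitrary ι)), by simp⟩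
  | insert a s has ih =>
    obtain ⟨v, hv0, hv⟩ := ih (fun b hb => hs b (Finset.mem_insert_of_mem hb))
      fun b hb b' hb' => hc b (Finset.mem_insert_of_mem hb) b' (Finset.mem_insert_of_mem hb')
    have key : ∀ d : F, ∀ b ∈ s, ∀ c : F, (b : Matrix ι ι F) *ᵥ v = c • v →
        (b : Matrix ι ι F) *ᵥ ((a : Matrix ι ι F) *ᵥ v + d • v) = c • ((a : Matrix ι ι F) *ᵥ v + d • v) := by
      intro d b hb c hbv
      rw [Matrix.mulVec_add, Matrix.mulVec_mulVec, ← Units.val_mul,
        hc b (Finset.mem_insert_of_mem hb) a (Finset.mem_insert_self a s), Units.val_mul, ← Matrix.mulVec_mulVec,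
        hbv, Matrix.mulVec_smul, Matrix.mulVec_smul, hbv, smul_add, smul_comm d c]
    obtain ⟨d, hd, haa⟩ : ∃ d : F, (d = 1 ∨ d = i) ∧
        (a : Matrix ι ι F) *ᵥ ((a : Matrix ι ι F) *ᵥ v) = (d * d) • v := by
      rcases hsq a (hs a (Finset.mem_insert_self a s)) with h | h
      · exact ⟨1, Or.inl rfl, by rw [Matrix.mulVec_mulVec, ← Units.val_mul, h, Units.val_one,
          Matrix.one_mulVec, one_mul, one_smul]⟩
      · exact ⟨i, Or.inr rfl, by rw [Matrix.mulVec_mulVec, ← Units.val_mul, h, Units.val_neg, Units.val_one,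
          Matrix.neg_mulVec, Matrix.one_mulVec, ← sq, hi, neg_one_smul]⟩
    by_cases h0 : (a : Matrix ι ι F) *ᵥ v + d • v = 0
    · refine ⟨v, hv0, Finset.forall_mem_insert _ _ _ |>.2 ⟨⟨-d, ?_, ?_⟩, hv⟩⟩
      · rcases hd with rfl | rfl <;> simp
      · rw [eq_neg_of_add_eq_zero_left h0, neg_smul]
    · refine ⟨_, h0, Finset.forall_mem_insert _ _ _ |>.2 ⟨⟨d, ?_, ?_⟩, fun b hb => ?_⟩⟩
      · rcases hd with rfl | rfl <;> simp
      · rw [Matrix.mulVec_add, haa, Matrix.mulVec_smul, smul_add, smul_smul, add_comm]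
      · obtain ⟨c, hc1, hc2⟩ := hv b hb
        exact ⟨c, hc1, key d b hb c hc2⟩

/-- Such a group is realised over any subfield containing a square root of `-1`. -/
theorem realisable [Finite F] [Nonempty ι] {R : Subgroup (GL ι F)} (habs : ActsAbsolutelyIrreducibly (matrixSet R))
    (hsq : ∀ x ∈ R, x * x = 1 ∨ x * x = -1)
    (hcomm : ∀ x ∈ R, ∀ y ∈ R, y * x = x * y ∨ y * x = -(x * y))
    {i : F} (hi : i ^ 2 = -1) {F₁ : Subfield F} (hiF : i ∈ F₁) : RealisableOver F₁ (matrixSet R) := by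
  classical
  obtain ⟨A, -, hA⟩ := Finite.exists_le_maximal
    (p := fun S : Set (GL ι F) => (∀ a ∈ S, a ∈ R) ∧ ∀ a ∈ S, ∀ b ∈ S, a * b = b * a) (a := ∅)
    ⟨by simp, by simp⟩
  have hmax : ∀ z ∈ R, (∀ a ∈ A, a * z = z * a) → z ∈ A := by
    intro z hz hza
    refine hA.2 (y := insert z A) ⟨?_, ?_⟩ (Set.subset_insert z A) (Set.mem_insert z A)
    · rintro a (rfl | ha)
      exacts [hz, hA.1.1 a ha]
    · rintro a (rfl | ha) b (rfl | hb)
      exacts [rfl, (hza b hb).symm, hza a ha, hA.1.2 a ha b hb]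
  obtain ⟨v, hv0, hv⟩ := exists_common hsq hi A.toFinite.toFinset
    (fun a ha => hA.1.1 a (by simpa using ha))
    (fun a ha b hb => hA.1.2 a (by simpa using ha) b (by simpa using hb))
  have hv' : ∀ a ∈ A, ∃ c : F, (c = 1 ∨ c = -1 ∨ c = i ∨ c = -i) ∧ (a : Matrix ι ι F) *ᵥ v = c • v :=
    fun a ha => hv a (by simpa using ha)
  have hmu : ∀ c : F, (c = 1 ∨ c = -1 ∨ c = i ∨ c = -i) → c ∈ F₁ := by
    rintro c (rfl | rfl | rfl | rfl)
    exacts [F₁.one_mem, F₁.neg_mem F₁.one_mem, hiF, F₁.neg_mem hiF]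
  let V : Set (ι → F) := Set.range fun x : R => ((x : GL ι F) : Matrix ι ι F) *ᵥ v
  have hspan : Submodule.span F V = ⊤ := by
    refine (habs.1 (Submodule.span F V) ?_).resolve_left fun h => hv0 ?_
    · rintro _ ⟨g, hg, rfl⟩
      rw [Submodule.map_span, Submodule.span_le]
      rintro _ ⟨_, ⟨x, rfl⟩, rfl⟩
      refine Submodule.subset_span ⟨⟨g * x, mul_mem hg x.2⟩, ?_⟩
      simp only [Matrix.toLin'_apply, Matrix.mulVec_mulVec, Units.val_mul]
    · have : v ∈ Submodule.span F V := Submodule.subset_span ⟨1, by simp⟩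
      rwa [h, Submodule.mem_bot] at this
  obtain ⟨b, hbV, hbspan, hbind⟩ := exists_linearIndependent F V
  let bs := Module.Basis.mk hbind (by rw [Subtype.range_coe]; rw [hbspan, hspan])
  let bb : Module.Basis ι F (ι → F) := bs.reindex (bs.indexEquiv (Pi.basisFun F ι))
  have hbb : ∀ j, ∃ x ∈ R, bb j = (x : Matrix ι ι F) *ᵥ v := by
    intro j
    obtain ⟨x, hx⟩ := hbV ((bs.indexEquiv (Pi.basisFun F ι)).symm j).2
    refine ⟨x, x.2, ?_⟩
    rw [show bb j = (((bs.indexEquiv (Pi.basisFun F ι)).symm j).1) by simp [bb, bs]]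
    exact hx.symm
  choose xb hxR hxb using hbb
  -- the eigenvalues of the translates of `v`
  have hact : ∀ a ∈ A, ∀ y ∈ R, ∀ c e : F, (a : Matrix ι ι F) *ᵥ v = c • v →
      (a : Matrix ι ι F) * (y : Matrix ι ι F) = e • ((y : Matrix ι ι F) * (a : Matrix ι ι F)) →
      (a : Matrix ι ι F) *ᵥ ((y : Matrix ι ι F) *ᵥ v) = (e * c) • ((y : Matrix ι ι F) *ᵥ v) := by
    intro a _ y _ c e hc he
    rw [Matrix.mulVec_mulVec, he, Matrix.smul_mulVec, ← Matrix.mulVec_mulVec, hc, Matrix.mulVec_smul, smul_smul]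
  -- every translate is a multiple of a basis vector
  have hline : ∀ y ∈ R, ∃ k, ∃ c ∈ F₁, (y : Matrix ι ι F) *ᵥ v = c • bb k := by
    intro y hy
    have hy0 : (y : Matrix ι ι F) *ᵥ v ≠ 0 := fun h => hv0 (by
      have h' := congrArg (fun w => ((y⁻¹ : GL ι F) : Matrix ι ι F) *ᵥ w) h
      simpa [Matrix.mulVec_mulVec] using h')
    obtain ⟨k, hk⟩ : ∃ k, bb.repr ((y : Matrix ι ι F) *ᵥ v) k ≠ 0 := by
      by_contra h
      exact hy0 (bb.repr.map_eq_zero_iff.1 (Finsupp.ext fun k => not_not.1 fun hk => h ⟨k, hk⟩))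
    have hxR' := hxR k
    have hz : (xb k)⁻¹ * y ∈ A := by
      refine hmax _ (mul_mem (inv_mem hxR') hy) fun a ha => ?_
      have haR := hA.1.1 a ha
      obtain ⟨c, hc', hc⟩ := hv' a ha
      have hc0 : c ≠ 0 := by
        rintro rfl
        refine hv0 ?_
        rw [zero_smul] at hc
        have h' := congrArg (fun w => ((a⁻¹ : GL ι F) : Matrix ι ι F) *ᵥ w) hc
        simpa [Matrix.mulVec_mulVec] using h'
      obtain ⟨e, he1, he⟩ := sign_of_comm hcomm haR hy
      -- coefficient comparison in the basis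
      have hrep := congrArg (fun w => bb.repr w k) (hact a ha y hy c e hc he)
      simp only [map_smul, Finsupp.smul_apply, smul_eq_mul] at hrep
      obtain ⟨ek, hek1, hek⟩ := sign_of_comm hcomm haR hxR'
      have hdiag : ∀ w, bb.repr ((a : Matrix ι ι F) *ᵥ w) k = ek * c * bb.repr w k := by
        intro w
        conv_lhs => rw [← bb.sum_repr w]
        rw [Matrix.mulVec_sum, map_sum, Finsupp.coe_finset_sum, Finset.sum_apply, Finset.sum_eq_single k]
        · rw [Matrix.mulVec_smul, map_smul, hxb k, hact a ha (xb k) hxR' c ek hc hek, ← hxb k]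
          simp [mul_comm]
        · intro j _ hjk
          obtain ⟨ej, -, hej⟩ := sign_of_comm hcomm haR (hxR j)
          rw [Matrix.mulVec_smul, hxb j, hact a ha (xb j) (hxR j) c ej hc hej, ← hxb j]
          simp [hjk]
        · simp
      rw [hdiag, mul_assoc, mul_assoc] at hrep
      have hee : ek = e := mul_right_cancel₀ (mul_ne_zero hc0 hk) hrep
      subst hee
      refine Units.ext ?_
      have hx' : ((xb k)⁻¹ : GL ι F).1 * a.1 = ek • (a.1 * ((xb k)⁻¹ : GL ι F).1) := by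
        have h' := congrArg (fun M => ((xb k)⁻¹ : GL ι F).1 * M * ((xb k)⁻¹ : GL ι F).1) hek
        simpa [mul_assoc] using h'
      have hy' : y.1 * a.1 = ek • (a.1 * y.1) := by rw [he, smul_smul, he1, one_smul]
      simp only [Units.val_mul]
      rw [mul_assoc _ y.1 a.1, hy', mul_smul_comm, ← mul_assoc _ a.1 y.1, hx', smul_mul_assoc, smul_smul,
        he1, one_smul, mul_assoc]
    obtain ⟨c, hc', hc⟩ := hv' _ hz
    refine ⟨k, c, hmu c hc', ?_⟩
    rw [hxb k, ← Matrix.mulVec_smul, ← hc, Matrix.mulVec_mulVec, ← Units.val_mul, mul_inv_cancel_left]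
  let std := Pi.basisFun F ι
  refine ⟨⟨bb.toMatrix std, std.toMatrix bb, bb.toMatrix_mul_toMatrix_flip std,
    std.toMatrix_mul_toMatrix_flip bb⟩, ?_⟩
  rintro _ ⟨g, hg, rfl⟩ r j
  show (bb.toMatrix std * (g : Matrix ι ι F) * std.toMatrix bb) r j ∈ F₁
  have hT : LinearMap.toMatrix std std (Matrix.toLin' (g : Matrix ι ι F)) = (g : Matrix ι ι F) := by
    rw [LinearMap.toMatrix_eq_toMatrix', LinearMap.toMatrix'_toLin']
  rw [← hT, basis_toMatrix_mul_linearMap_toMatrix_mul_basis_toMatrix, LinearMap.toMatrix_apply,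
    Matrix.toLin'_apply, hxb j, Matrix.mulVec_mulVec, ← Units.val_mul]
  obtain ⟨k, c, hc, hk⟩ := hline _ (mul_mem hg (hxR j))
  rw [hk, map_smul, Module.Basis.repr_self, Finsupp.smul_single, smul_eq_mul, mul_one, Finsupp.single_apply]
  split_ifs
  exacts [hc, F₁.zero_mem]

end

variable {F : Type*} [Field F] [Fintype F]

/-- `SU_8(q)` does not normalise such a group. -/
theorem not_le_normalizer {q : ℕ} (hF : Fintype.card F = q ^ 2) {R : Subgroup (GL (Fin 8) F)}
    (habs : ActsAbsolutelyIrreducibly (matrixSet R))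
    (hcomm : ∀ x ∈ R, ∀ y ∈ R, y * x = x * y ∨ y * x = -(x * y)) (h2 : (2 : F) ≠ 0) :
    ¬ omegaU 8 F q ≤ subgroupNormalizer R := by
  classical
  intro hle
  obtain ⟨u, hu0, hu⟩ := exists_isotropic hF (n := 8) (by norm_num)
  obtain ⟨c, hc, hc0⟩ := exists_skew_ne hF
  obtain ⟨T, hT⟩ := exists_tv hF u hu c hc
  set t : GL (Fin 8) F := toGU 8 F q T with ht
  set φ : (Fin 8 → F) →ₗ[F] F := hermBilin hF 8 u with hφ
  have htv : ∀ y, t.1 *ᵥ y = y + (c * φ y) • u := fun y => by rw [ht, toGU_mulVec, hT]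
  have hall : ∀ x ∈ R, t * x = x * t := by
    intro x hx
    have hz : t * x * t⁻¹ * x⁻¹ ∈ R :=
      mul_mem ((Subgroup.mem_normalizer_iff.1 (hle (toGU_mem T)) x).1 hx) (inv_mem hx)
    set W : Submodule F (Fin 8 → F) :=
      LinearMap.ker (φ.prod (φ ∘ₗ Matrix.toLin' (x⁻¹ : GL (Fin 8) F).1)) with hWdef
    have hW6 : 6 ≤ Module.finrank F W := by
      have h := LinearMap.finrank_range_add_finrank_ker (φ.prod (φ ∘ₗ Matrix.toLin' (x⁻¹ : GL (Fin 8) F).1))
      have h' := Submodule.finrank_le (LinearMap.range (φ.prod (φ ∘ₗ Matrix.toLin' (x⁻¹ : GL (Fin 8) F).1)))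
      rw [Module.finrank_prod, Module.finrank_self] at h'
      rw [Module.finrank_fin_fun] at h
      rw [hWdef]; omega
    have hfix : ∀ w ∈ W, (t * x * t⁻¹ * x⁻¹).1 *ᵥ w = w := by
      intro w hw
      have hw' := LinearMap.mem_ker.1 hw
      simp only [LinearMap.prod_apply, Function.prod, LinearMap.comp_apply, Matrix.toLin'_apply, Prod.mk_eq_zero] at hw'
      set w' := (x⁻¹ : GL (Fin 8) F).1 *ᵥ w with hw'def
      have h1 : t.1 *ᵥ w = w := by rw [htv, hw'.1, mul_zero, zero_smul, add_zero]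
      have h2 : t.1 *ᵥ w' = w' := by rw [htv, hw'.2, mul_zero, zero_smul, add_zero]
      have h3 : (t⁻¹ : GL (Fin 8) F).1 *ᵥ w' = w' := by
        conv_lhs => rw [← h2]
        rw [Matrix.mulVec_mulVec, Units.inv_mul, Matrix.one_mulVec]
      rw [Units.val_mul, Units.val_mul, Units.val_mul, ← Matrix.mulVec_mulVec, ← Matrix.mulVec_mulVec,
        ← hw'def, h3, hw'def, ← Matrix.mulVec_mulVec, Matrix.mulVec_mulVec w x.1, Units.mul_inv,
        Matrix.one_mulVec, h1]
    set z := t * x * t⁻¹ * x⁻¹ with hzdef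
    suffices hz1 : z = 1 by
      rw [hzdef, mul_inv_eq_one, mul_inv_eq_iff_eq_mul] at hz1
      exact hz1
    by_cases hs : ∀ s ∈ matrixSet R, z.1 * s = s * z.1
    · obtain ⟨a, ha⟩ := habs.2 _ hs
      obtain ⟨w, hw, hw0⟩ := Submodule.exists_mem_ne_zero_of_ne_bot (p := W) fun h => by
        rw [h, finrank_bot] at hW6; omega
      have hw1 := hfix w hw
      rw [ha, Matrix.smul_mulVec, Matrix.one_mulVec] at hw1
      have ha1 : a = 1 := smul_left_injective F hw0 (hw1.trans (one_smul F w).symm)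
      exact Units.ext (by rw [ha, ha1, one_smul, Units.val_one])
    · exfalso
      obtain ⟨_, ⟨y, hy, rfl⟩, hzy⟩ : ∃ s ∈ matrixSet R, z.1 * s ≠ s * z.1 := by simpa using hs
      have hneg : z.1 * y.1 = -(y.1 * z.1) := by
        rcases hcomm y hy z hz with h | h
        · exact absurd (by rw [← Units.val_mul, ← Units.val_mul, h]) hzy
        · rw [← Units.val_mul, h, Units.val_neg, Units.val_mul]
      set W' := W.map (Matrix.toLin' y.1) with hW'
      have hinj : Function.Injective (Matrix.toLin' y.1) := fun p q hpq => by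
        have h := congrArg (fun w => (y⁻¹ : GL (Fin 8) F).1 *ᵥ w) hpq
        simpa [Matrix.toLin'_apply, Matrix.mulVec_mulVec] using h
      have hd : Module.finrank F W' = Module.finrank F W :=
        (Submodule.equivMapOfInjective _ hinj W).finrank_eq.symm
      have hinf : W ⊓ W' = ⊥ := by
        rw [Submodule.eq_bot_iff]
        rintro w ⟨hw, ⟨w₁, hw₁, rfl⟩⟩
        have h := hfix _ hw
        rw [Matrix.toLin'_apply, Matrix.mulVec_mulVec, hneg, Matrix.neg_mulVec, ← Matrix.mulVec_mulVec,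
          hfix w₁ hw₁, neg_eq_iff_add_eq_zero, ← two_smul F, smul_eq_zero] at h
        exact h.resolve_left h2
      have h8 := Submodule.finrank_sup_add_finrank_inf_eq W W'
      rw [hinf, finrank_bot] at h8
      have h8' := Submodule.finrank_le (W ⊔ W')
      rw [Module.finrank_fin_fun] at h8'
      omega
  obtain ⟨a, ha⟩ := habs.2 t.1 (by
    rintro _ ⟨x, hx, rfl⟩
    rw [← Units.val_mul, ← Units.val_mul, hall x hx])
  obtain ⟨y, hy, -⟩ := exists_partner hF hu0 hu
  have hau := htv u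
  rw [ha, Matrix.smul_mulVec, Matrix.one_mulVec, hφ, hu, mul_zero, zero_smul, add_zero] at hau
  have ha1 : a = 1 := smul_left_injective F hu0 (hau.trans (one_smul F u).symm)
  have hay := htv y
  rw [ha, ha1, one_smul, Matrix.one_mulVec, hφ, hy, mul_one] at hay
  exact (smul_ne_zero hc0 hu0) (left_eq_add.1 hay)

end Cfsg.Agent.Lib.UnitEight
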